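import Cfsg.Agent.Lib.J1Weak.Weak
import Cfsg.Agent.Lib.Alt.Aut
import Cfsg.Agent.Lib.J2Type.AltPerm
import Mathlib.GroupTheory.GroupAction.Quotient
import Mathlib.GroupTheory.SpecificGroups.Alternating.Centralizer

/-!
# The action of the normaliser of `V`
-/

set_option autoImplicit false
set_option maxRecDepth 8000

namespace CfsgLib.J1Weak

open Subgroup CfsgLib.J1Recog

local notation "A5" => alternatingGroup (Fin 5)

set_option synthInstance.maxSize 1000 in
theorem orbit_cases : ∀ O : Finset (Fin 8), 0 ∉ O → (∀ k ∈ O, Lc k ∈ O) → O.card % 2 = 1 →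
    1 ∈ O → (2 ∈ O ∨ 3 ∈ O) → O.card = 7 ∧ ∀ k, k ≠ 0 → k ∈ O := by
  decide +kernel

theorem xorF_cancel : ∀ a b : Fin 8, xorF a (xorF a b) = b := by decide +kernel

/-- A homomorphism from the alternating group of degree 5 to a commutative group is trivial. -/
theorem hom_alt_eq_one {A : Type*} [CommGroup A] (ψ : A5 →* A) (a : A5) : ψ a = 1 := by
  have h : commutator A5 ≤ ψ.ker := Abelianization.commutator_subset_ker ψ
  rw [commutator_alternatingGroup_eq_top (by simp)] at h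
  exact MonoidHom.mem_ker.mp (h (mem_top a))

variable {G : Type*} [Group G] (E : Weak G)

theorem Weak.Acts.bijective {E : Weak G} {n : G} {L : Fin 8 → Fin 8} (h : E.Acts n L) :
    Function.Bijective L :=
  Finite.injective_iff_bijective.mp h.injective

/-- The action of an element of the centraliser on the weak closure. -/
noncomputable def Weak.autM {c : G} (hc : c * E.t = E.t * c) : M →* M :=
  (MonoidHom.ofInjective E.inj).symm.toMonoidHom.comp
    (((MulAut.conj c).toMonoidHom.comp E.j).codRestrict E.j.range fun m => by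
      simpa using E.conj_range hc ⟨m, rfl⟩)

theorem Weak.j_autM {c : G} (hc : c * E.t = E.t * c) (m : M) :
    E.j (E.autM hc m) = c * E.j m * c⁻¹ := by
  show E.j ((MonoidHom.ofInjective E.inj).symm _) = _
  rw [MonoidHom.apply_ofInjective_symm]
  rfl

theorem Weak.autM_fst {c : G} (hc : c * E.t = E.t * c) (a : A5) : (E.autM hc (1, a)).1 = 1 :=
  hom_alt_eq_one ((MonoidHom.fst _ _).comp ((E.autM hc).comp (MonoidHom.inr _ _))) a

theorem Weak.autM_v {c : G} (hc : c * E.t = E.t * c) {k l : Fin 8}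
    (h : c * E.v k * c⁻¹ = E.v l) : E.autM hc (sOf k) = sOf l :=
  E.inj ((E.j_autM hc _).trans h)

/-- An element of the centraliser acting on `V` preserves the even indices. -/
theorem Weak.even_of_comm {n : G} {L : Fin 8 → Fin 8} (h : E.Acts n L) (hc : n * E.t = E.t * n)
    {k : Fin 8} (hk : (sOf k).1 = 1) (hk0 : k ≠ 0) : L k = 2 ∨ L k = 4 ∨ L k = 6 := by
  have h1 : (sOf (L k)).1 = 1 := by
    rw [← E.autM_v hc (h k), show sOf k = (1, (sOf k).2) from Prod.ext hk rfl]
    exact E.autM_fst hc _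
  exact (sOf_fst _ h1).resolve_left fun e => hk0 (h.eq_zero e)

/-- The permutation of the indices given by an element of the normaliser. -/
noncomputable def Weak.rho : normalizer (E.V : Set G) →* Equiv.Perm (Fin 8) :=
  MonoidHom.mk' (fun n => Equiv.ofBijective _
      (E.exists_lin n.2).choose_spec.choose_spec.choose_spec.bijective) fun n m => by
    refine Equiv.ext fun k => ?_
    exact congrFun ((E.exists_lin (n * m).2).choose_spec.choose_spec.choose_spec.unique
      ((E.exists_lin n.2).choose_spec.choose_spec.choose_spec.mul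
        (E.exists_lin m.2).choose_spec.choose_spec.choose_spec)) k

theorem Weak.acts_rho (n : normalizer (E.V : Set G)) : E.Acts n (E.rho n) :=
  (E.exists_lin n.2).choose_spec.choose_spec.choose_spec

theorem Weak.rho_eq {n : normalizer (E.V : Set G)} {L : Fin 8 → Fin 8} (h : E.Acts n L) :
    ⇑(E.rho n) = L :=
  (E.acts_rho n).unique h

theorem Weak.rho_lin (n : normalizer (E.V : Set G)) : ∃ a b c, ⇑(E.rho n) = lin a b c :=
  (E.exists_lin n.2).elim fun a h => h.elim fun b h => h.elim fun c h => ⟨a, b, c, E.rho_eq h⟩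

theorem Weak.acts_mem [Finite G] {n : G} {L : Fin 8 → Fin 8} (h : E.Acts n L) :
    n ∈ normalizer (E.V : Set G) := by
  have hle : E.V.map (MulAut.conj n).toMonoidHom ≤ E.V := by
    rintro _ ⟨_, ⟨k, rfl⟩, rfl⟩
    exact ⟨L k, (h k).symm⟩
  have heq : E.V.map (MulAut.conj n).toMonoidHom = E.V :=
    eq_of_le_of_card_ge hle (by rw [card_map_of_injective (MulAut.conj n).injective])
  rw [mem_normalizer_iff]
  intro x
  refine ⟨fun hx => hle ⟨x, hx, rfl⟩, fun hx => ?_⟩
  rw [← heq] at hx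
  obtain ⟨y, hy, e⟩ := hx
  have : y = x := (MulAut.conj n).injective e
  exact this ▸ hy

theorem Weak.rho_one_iff {n : normalizer (E.V : Set G)} :
    E.rho n 1 = 1 ↔ (n : G) * E.t = E.t * n := by
  have h := E.acts_rho n 1
  rw [E.v_one] at h
  rw [← mul_inv_eq_iff_eq_mul, h, ← E.v_one, E.v_inj.eq_iff]

variable [Finite G]

/-- `lc` as an element of the normaliser. -/
noncomputable def Weak.mN : normalizer (E.V : Set G) := ⟨E.j lc, E.acts_mem E.acts_lc⟩

theorem Weak.rho_mN : ⇑(E.rho E.mN) = Lc := E.rho_eq E.acts_lc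

theorem Weak.orbit_full :
    Nat.card (MulAction.orbit E.rho.range (1 : Fin 8)) = 7 ∧
      ∀ k : Fin 8, k ≠ 0 → ∃ n : normalizer (E.V : Set G), E.rho n 1 = k := by
  classical
  haveI : Fact (Nat.Prime 2) := ⟨Nat.prime_two⟩
  let O : Finset (Fin 8) := Finset.univ.filter fun k => ∃ n : normalizer (E.V : Set G), E.rho n 1 = k
  have hO : ∀ {k}, k ∈ O ↔ ∃ n : normalizer (E.V : Set G), E.rho n 1 = k := by simp [O]
  have horb : MulAction.orbit E.rho.range (1 : Fin 8) = (O : Set (Fin 8)) := by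
    ext k
    rw [Finset.mem_coe, hO, MulAction.mem_orbit_iff]
    constructor
    · rintro ⟨⟨_, n, rfl⟩, h⟩
      exact ⟨n, h⟩
    · rintro ⟨n, h⟩
      exact ⟨⟨_, n, rfl⟩, h⟩
  have hcard : Nat.card (MulAction.orbit E.rho.range (1 : Fin 8)) = O.card := by
    rw [horb]; simp
  have hodd : O.card % 2 = 1 := by
    rw [← hcard, ← Nat.odd_iff, ← Nat.not_even_iff_odd, even_iff_two_dvd,
      Nat.card_congr (MulAction.orbitEquivQuotientStabilizer E.rho.range (1 : Fin 8)), ← Subgroup.index]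
    intro h
    rw [← index_comap_of_surjective _ E.rho.rangeRestrict_surjective] at h
    have hSN : (E.S : Subgroup G) ≤ normalizer (E.V : Set G) := fun s hs => E.S_normalises hs
    have hle : (E.S : Subgroup G).subgroupOf (normalizer (E.V : Set G)) ≤
        (MulAction.stabilizer E.rho.range (1 : Fin 8)).comap E.rho.rangeRestrict := by
      intro n hn
      rw [mem_comap, MulAction.mem_stabilizer_iff]
      exact E.rho_one_iff.mpr (E.comm _ (mem_subgroupOf.mp hn))
    have h2 := h.trans (Subgroup.index_dvd_of_le hle)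
    exact E.S.not_dvd_index (h2.trans ⟨_, (relIndex_mul_index hSN).symm⟩)
  have h0 : 0 ∉ O := by
    rw [hO]
    rintro ⟨n, hn⟩
    exact absurd ((E.acts_rho n).eq_zero hn) (by decide)
  have hLc : ∀ k ∈ O, Lc k ∈ O := by
    intro k hk
    obtain ⟨n, rfl⟩ := hO.mp hk
    exact hO.mpr ⟨E.mN * n, by rw [map_mul, Equiv.Perm.mul_apply, E.rho_mN]⟩
  have hin : ∀ {k : Fin 8}, (∃ g : G, E.v k = g * E.t * g⁻¹) → k ∈ O := by
    intro k hk
    obtain ⟨n, hn, he⟩ := E.exists_normalizer hk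
    refine hO.mpr ⟨⟨n, hn⟩, E.v_inj ?_⟩
    rw [← E.acts_rho ⟨n, hn⟩ 1, E.v_one]
    exact he
  have h23 : 2 ∈ O ∨ 3 ∈ O := E.exists_generators.imp (fun h => hin (h 2 (by simp))) fun h => hin (h 3 (by simp))
  obtain ⟨hc, hall⟩ := orbit_cases O h0 hLc hodd (hin ⟨1, by rw [E.v_one]; group⟩) h23
  exact ⟨hcard.trans hc, fun k hk => hO.mp (hall k hk)⟩

/-- All involutions of the weak closure are conjugate to `t`. -/
theorem Weak.isConj_of_mem_range {x : G} (hx : x ∈ E.j.range) (h2 : x * x = 1) (h1 : x ≠ 1) :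
    ∃ g : G, g * E.t * g⁻¹ = x := by
  have hv : ∀ k : Fin 8, k ≠ 0 → ∃ g : G, g * E.t * g⁻¹ = E.v k := by
    intro k hk
    obtain ⟨n, hn⟩ := E.orbit_full.2 k hk
    refine ⟨n, ?_⟩
    rw [← E.v_one, E.acts_rho n 1, hn]
  rcases E.t_eq_conj_or hx h2 h1 with rfl | ⟨m, rfl⟩ | ⟨m, rfl⟩
  · exact ⟨1, by group⟩
  · obtain ⟨g, hg⟩ := hv 2 (by decide)
    exact ⟨E.j m * g, by rw [← hg]; group⟩
  · obtain ⟨g, hg⟩ := hv 3 (by decide)
    exact ⟨E.j m * g, by rw [← hg]; group⟩

theorem mem_zpowers_of_lt_fifty {B : Type*} [Group B] [Finite B] (hB : Nat.card B < 49) {q s : B}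
    (hq7 : orderOf q = 7) (hs7 : orderOf s = 7) : s ∈ zpowers q := by
  by_contra hns
  haveI : Fact (Nat.Prime 7) := ⟨by norm_num⟩
  have hdis : Disjoint (zpowers q) (zpowers s) := by
    rw [disjoint_iff, eq_bot_iff_card]
    have h1 := card_dvd_of_le (inf_le_left : zpowers q ⊓ zpowers s ≤ zpowers q)
    rw [Nat.card_zpowers, hq7] at h1
    rcases (Nat.dvd_prime (by norm_num)).mp h1 with h | h
    · exact h
    · exfalso
      refine hns ?_
      have h2 : zpowers q ⊓ zpowers s = zpowers q :=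
        eq_of_le_of_card_ge inf_le_left (by rw [Nat.card_zpowers, hq7, h])
      have h3 : zpowers q = zpowers s :=
        eq_of_le_of_card_ge (h2 ▸ inf_le_right) (by rw [Nat.card_zpowers, Nat.card_zpowers, hq7, hs7])
      exact h3 ▸ mem_zpowers s
  have h := Nat.card_le_card_of_injective _ (mul_injective_of_disjoint hdis)
  rw [Nat.card_prod, Nat.card_zpowers, Nat.card_zpowers, hq7, hs7] at h
  omega

theorem Weak.stab_mem {σ : Equiv.Perm (Fin 8)} (hσ : σ ∈ E.rho.range) (h1 : σ 1 = 1) :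
    (∃ i : Fin 3, ⇑σ = Lc^[i.val]) ∨ ⇑σ = lin 1 2 6 ∨ ⇑σ = lin 1 4 2 ∨ ⇑σ = lin 1 6 4 := by
  obtain ⟨n, rfl⟩ := hσ
  obtain ⟨a, b, c, e⟩ := E.rho_lin n
  obtain ⟨e1, e2, e4⟩ := lin_one a b c
  have ha : a = 1 := by rw [← e1, ← e, h1]
  subst ha
  have hc := E.rho_one_iff.mp h1
  have hb := E.even_of_comm (E.acts_rho n) hc fst_even.1 (by decide)
  have hc' := E.even_of_comm (E.acts_rho n) hc fst_even.2.1 (by decide)
  rw [e, e2] at hb
  rw [e, e4] at hc'
  rw [e]
  exact stab_cases b c (fun x hx => (E.acts_rho n).eq_zero (by rw [e, hx])) hb hc'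

/-- The commutator of an element of order 7 with `lc`, with its properties. -/
theorem Weak.card_rho : Nat.card E.rho.range = 21 ∧ ∃ (g : G) (L : Fin 8 → Fin 8) (r : Fin 7),
    g ∈ normalizer (E.V : Set G) ∧ E.Acts g L ∧ L^[7] = id ∧ L 1 ≠ 1 ∧
      E.Acts (g * E.j lc * g⁻¹ * (E.j lc)⁻¹) (comL L) ∧
      (∀ k, comL L k = k → k = 0) ∧
      (∀ e, ∃ k, comL L k = xorF k e) ∧
      comL L ∘ L = L ∘ comL L ∧
      Lc ∘ comL L = (comL L)^[r.val] ∘ Lc ∧
      ∀ k, k ≠ 0 → ∃ i : Fin 7, (comL L)^[i.val] 1 = k := by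
  classical
  set A := E.rho.range with hA
  set T := MulAction.stabilizer A (1 : Fin 8) with hT
  have hcard : Nat.card A = 7 * Nat.card T := by
    rw [← T.card_mul_index, hT, Subgroup.index,
      ← Nat.card_congr (MulAction.orbitEquivQuotientStabilizer A (1 : Fin 8)), E.orbit_full.1, mul_comm]
  let opts : Finset (Fin 8 → Fin 8) := {id, Lc, Lc^[2], lin 1 2 6, lin 1 4 2, lin 1 6 4}
  have hT6 : Nat.card T ≤ 6 := by
    refine le_trans (Nat.card_le_card_of_injective (fun σ : T => (⟨⇑(σ.1.1 : Equiv.Perm (Fin 8)), ?_⟩ : opts)) ?_) ?_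
    · rcases E.stab_mem σ.1.2 (MulAction.mem_stabilizer_iff.mp σ.2) with ⟨i, h⟩ | h | h | h
      · rw [h]; fin_cases i <;> simp [opts]
      all_goals (rw [h]; simp [opts])
    · intro x y h
      exact Subtype.ext (Subtype.ext (Equiv.coe_fn_injective (congrArg (fun z : opts => z.1) h)))
    · rw [Nat.card_eq_fintype_card, Fintype.card_coe]
      decide +kernel
  haveI : Fact (Nat.Prime 7) := ⟨by norm_num⟩
  obtain ⟨π, hπ⟩ := exists_prime_orderOf_dvd_card' (G := A) 7 ⟨_, hcard⟩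
  obtain ⟨⟨g, hg⟩, hgπ⟩ := π.2
  obtain ⟨a, b, c, hL⟩ := E.rho_lin ⟨g, hg⟩
  have hπL : ⇑(π.1) = lin a b c := hgπ ▸ hL
  have h7 : (lin a b c)^[7] = id := by
    rw [← hπL, ← Equiv.Perm.coe_pow, ← SubmonoidClass.coe_pow, ← hπ, pow_orderOf_eq_one]
    rfl
  have hne : lin a b c ≠ id := by
    intro h
    have : π = 1 := Subtype.ext (Equiv.coe_fn_injective (hπL.trans h))
    rw [this, orderOf_one] at hπ
    norm_num at hπ
  have hpow : ∀ {τ : A}, orderOf τ = 7 → ∃ r : Fin 7, τ = π ^ r.val := by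
    intro τ hτ
    have h := mem_zpowers_of_lt_fifty (by omega) hπ hτ
    rw [mem_zpowers_iff_mem_range_orderOf, hπ] at h
    obtain ⟨r, hr, e⟩ := Finset.mem_image.mp h
    exact ⟨⟨r, Finset.mem_range.mp hr⟩, e.symm⟩
  have hconj : ∀ σ : A, ∃ r : Fin 7, ⇑(σ.1) ∘ lin a b c = (lin a b c)^[r.val] ∘ ⇑(σ.1) := by
    intro σ
    obtain ⟨r, hr⟩ := hpow (τ := σ * π * σ⁻¹) (by rw [← MulAut.conj_apply, MulEquiv.orderOf_eq, hπ])
    refine ⟨r, ?_⟩
    rw [mul_inv_eq_iff_eq_mul] at hr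
    rw [← hπL, ← Equiv.Perm.coe_pow, ← Equiv.Perm.coe_mul, ← Equiv.Perm.coe_mul]
    exact congrArg (fun z : A => ⇑(z.1)) hr
  have hstab : ∀ σ : A, σ.1 1 = 1 → ∃ i : Fin 3, ⇑(σ.1) = Lc^[i.val] := by
    intro σ hσ
    rcases E.stab_mem σ.2 hσ with h | h | h | h
    · exact h
    all_goals
      obtain ⟨r, hr⟩ := hconj σ
      rw [h] at hr
      obtain ⟨n1, n2, n3⟩ := no_swap a b c h7 hne r
      first | exact absurd hr n1 | exact absurd hr n2 | exact absurd hr n3
  let m : A := ⟨E.rho E.mN, E.mN, rfl⟩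
  have hm : ⇑(m.1) = Lc := E.rho_mN
  have hm3 : orderOf m = 3 := by
    haveI : Fact (Nat.Prime 3) := ⟨Nat.prime_three⟩
    refine orderOf_eq_prime (Subtype.ext (Equiv.coe_fn_injective ?_)) fun h => ?_
    · show ⇑((m ^ 3 : A).1) = ⇑(1 : Equiv.Perm (Fin 8))
      rw [SubmonoidClass.coe_pow, Equiv.Perm.coe_pow, hm, Lc_cube]; rfl
    · have := congrFun hm 2
      rw [h, Lc_orbit.1] at this
      simp at this
  have hTm : T = zpowers m := by
    refine le_antisymm (fun σ hσ => ?_) (zpowers_le.mpr ?_)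
    · obtain ⟨i, hi⟩ := hstab σ (MulAction.mem_stabilizer_iff.mp hσ)
      exact ⟨i.val, Subtype.ext (Equiv.coe_fn_injective (by
        show ⇑((m ^ ((i.val : ℤ))).1) = ⇑(σ.1)
        rw [zpow_natCast, SubmonoidClass.coe_pow, Equiv.Perm.coe_pow, hm, hi]))⟩
    · refine MulAction.mem_stabilizer_iff.mpr ?_
      show m.1 1 = 1
      rw [hm, Lc_orbit.2.2.2.2]
  refine ⟨by rw [hcard, hTm, Nat.card_zpowers, hm3], ?_⟩
  obtain ⟨r, hr⟩ := hconj m
  rw [hm] at hr
  obtain ⟨h1, h2, h3, h4, h5, h6⟩ := comL_spec a b c h7 hne r hr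
  have hga : E.Acts g (lin a b c) := hL ▸ E.acts_rho ⟨g, hg⟩
  refine ⟨g, lin a b c, r, hg, hga, h7, h1, ?_, h2, h3, h4, h5, h6⟩
  have hgi : E.Acts g⁻¹ ((lin a b c)^[6]) := hga.inv (by rw [← Function.iterate_succ']; exact h7)
  have hmi : E.Acts (E.j lc)⁻¹ (Lc^[2]) := E.acts_lc.inv (by rw [← Function.iterate_succ']; exact Lc_cube)
  exact ((hga.mul E.acts_lc).mul hgi).mul hmi

/-- A 2-element of the normaliser of `V` centralises it. -/
theorem Weak.comm_of_two {n : G} (hn : n ∈ normalizer (E.V : Set G)) {k : ℕ} (h : n ^ (2 ^ k) = 1)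
    (l : Fin 8) : n * E.v l = E.v l * n := by
  have h1 : (E.rho.rangeRestrict ⟨n, hn⟩) ^ (2 ^ k) = 1 := by
    rw [← map_pow, show (⟨n, hn⟩ : normalizer (E.V : Set G)) ^ (2 ^ k) = 1 from Subtype.ext h, map_one]
  have h2 := orderOf_dvd_natCard (E.rho.rangeRestrict ⟨n, hn⟩)
  rw [E.card_rho.1] at h2
  have h3 : E.rho.rangeRestrict ⟨n, hn⟩ = 1 := orderOf_eq_one_iff.mp
    (Nat.eq_one_of_dvd_coprimes (Nat.Coprime.pow_left k (by norm_num)) (orderOf_dvd_of_pow_eq_one h1) h2)
  have h4 := E.acts_rho ⟨n, hn⟩ l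
  rw [show E.rho ⟨n, hn⟩ = 1 from congrArg Subtype.val h3] at h4
  exact mul_inv_eq_iff_eq_mul.mp h4

/-- An element centralising `V` is a product of an element centralising the weak closure and one of `V`. -/
theorem Weak.exists_central {d : G} (hd : ∀ k, d * E.v k = E.v k * d) :
    ∃ k : Fin 8, ∀ m : M, d * E.v k * E.j m = E.j m * (d * E.v k) := by
  have hc : d * E.t = E.t * d := by rw [← E.v_one]; exact hd 1
  set φ := E.autM hc with hφ
  have hfix : ∀ k, φ (sOf k) = sOf k := fun k => E.autM_v hc (by rw [hd k, mul_inv_cancel_right])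
  let α : A5 →* A5 := (MonoidHom.snd _ _).comp (φ.comp (MonoidHom.inr _ _))
  have hα : ∀ a, φ (1, a) = (1, α a) := fun a => Prod.ext (E.autM_fst hc a) rfl
  have hinj : Function.Injective φ := fun x y e => by
    have := congrArg E.j e
    rw [E.j_autM hc, E.j_autM hc] at this
    exact E.inj (mul_left_cancel (mul_right_cancel this))
  have hαinj : Function.Injective α := fun a b e =>
    congrArg Prod.snd (hinj ((hα a).trans ((by rw [e] : _ = ((1 : Multiplicative (ZMod 2)), α b)).trans (hα b).symm)))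
  obtain ⟨σ, hσ⟩ := CfsgLib.AltAut.conjNormal_surjective (α := Fin 5) (by simp) (by simp)
    (MulEquiv.ofBijective α (Finite.injective_iff_bijective.mp hαinj))
  have hσα : ∀ a : A5, σ * (a : Equiv.Perm (Fin 5)) = (α a : Equiv.Perm (Fin 5)) * σ := by
    intro a
    have := congrArg (fun z : A5 => (z : Equiv.Perm (Fin 5))) (congrFun (congrArg DFunLike.coe hσ) a)
    simp only [MulEquiv.ofBijective_apply, MulAut.conjNormal_apply] at this
    rw [← this, inv_mul_cancel_right]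
  have hev : ∀ k : Fin 8, (sOf k).1 = 1 → α (sOf k).2 = (sOf k).2 := by
    intro k hk
    have he : sOf k = (1, (sOf k).2) := Prod.ext hk rfl
    have h := hfix k
    rw [he, hα] at h
    exact (Prod.mk.inj h).2
  have key : σ = 1 ∨ σ = ((sOf 2).2 : Equiv.Perm (Fin 5)) ∨ σ = ((sOf 4).2 : Equiv.Perm (Fin 5)) ∨
      σ = (((sOf 2).2 * (sOf 4).2 : A5) : Equiv.Perm (Fin 5)) := by
    refine CfsgLib.J2Type.alt_four_cent _ ?_ ?_ _ ?_ ?_ ?_ ?_ σ ?_ ?_
    · decide +kernel
    · decide +kernel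
    · decide +kernel
    · decide +kernel
    · decide +kernel
    · decide +kernel
    · rw [hσα, hev 2 fst_even.1]
    · rw [hσα, hev 4 fst_even.2.1]
  obtain ⟨k, hk1, hk⟩ : ∃ k : Fin 8, (sOf k).1 = 1 ∧ σ = ((sOf k).2 : Equiv.Perm (Fin 5)) := by
    rcases key with h | h | h | h
    · exact ⟨0, by decide +kernel, by rw [h, sOf_zero]; rfl⟩
    · exact ⟨2, fst_even.1, h⟩
    · exact ⟨4, fst_even.2.1, h⟩
    · exact ⟨6, fst_even.2.2, by rw [h]; decide +kernel⟩
  have hφm : ∀ m : M, φ m = sOf k * m * (sOf k)⁻¹ := by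
    intro m
    have hm : m = (m.1, 1) * (1, m.2) := by ext <;> simp
    have h1 : φ (m.1, 1) = (m.1, 1) := by
      have hz : ∀ z : Multiplicative (ZMod 2), ((z, 1) : M) = sOf 0 ∨ ((z, 1) : M) = sOf 1 := by decide +kernel
      rcases hz m.1 with h | h <;> rw [h, hfix]
    conv_lhs => rw [hm, map_mul, h1, hα]
    refine Prod.ext (by simp [hk1]) (Subtype.ext ?_)
    simp only [Prod.snd_mul, Prod.snd_inv, one_mul, Subgroup.coe_mul, Subgroup.coe_inv]
    rw [← hk, hσα, mul_inv_cancel_right]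
  refine ⟨k, fun m => ?_⟩
  have := congrArg E.j (hφm (sOf k * m * (sOf k)⁻¹))
  rw [show sOf k * (sOf k * m * (sOf k)⁻¹) * (sOf k)⁻¹ = m by
      calc _ = (sOf k * sOf k) * m * (sOf k * sOf k)⁻¹ := by group
        _ = m := by rw [sOf_sq]; group,
    E.j_autM hc, map_mul, map_mul, map_inv] at this
  show d * E.j (sOf k) * E.j m = E.j m * (d * E.j (sOf k))
  conv_rhs => rw [← this]
  group

end CfsgLib.J1Weak
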