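import Cfsg.Agent.Lib.J1Weak.Frame
import Cfsg.Agent.Lib.Sporadic.J1.Recog.Recognition
import Cfsg.Agent.Lib.TwoFusion.TransferPow

/-!
# The subgroup generated by two conjugates of the weak closure is the first Janko group
-/

set_option autoImplicit false
set_option maxRecDepth 8000

namespace CfsgLib.J1Weak

open Subgroup CfsgLib.J1Recog

/-- A perfect group with abelian Sylow subgroups has no nontrivial central subgroup. -/
theorem eq_bot_of_perfect_central {H : Type*} [Group H] [Finite H] (hperf : commutator H = ⊤)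
    {Z : Subgroup H} (hZ : Z ≤ center H)
    (hab : ∀ p : ℕ, p.Prime → ∀ P : Sylow p H, ∀ a ∈ (P : Subgroup H), ∀ b ∈ (P : Subgroup H), a * b = b * a) :
    Z = ⊥ := by
  by_contra hne
  obtain ⟨p, hp, hpd⟩ := Nat.exists_prime_and_dvd (show Nat.card Z ≠ 1 from fun h => hne (eq_bot_of_card_eq Z h))
  haveI : Fact p.Prime := ⟨hp⟩
  obtain ⟨⟨z, hzZ⟩, hz⟩ := exists_prime_orderOf_dvd_card' p hpd
  rw [Subgroup.orderOf_mk] at hz
  have hzc := mem_center_iff.mp (hZ hzZ)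
  obtain ⟨P⟩ : Nonempty (Sylow p H) := inferInstance
  have hzP : z ∈ (P : Subgroup H) := by
    have hpz : IsPGroup p (zpowers z) := IsPGroup.of_card (n := 1) (by rw [Nat.card_zpowers, hz, pow_one])
    have hle : (P : Subgroup H) ≤ normalizer (zpowers z : Set H) := by
      intro x _
      have hc : ∀ y ∈ zpowers z, x * y = y * x := by
        rintro _ ⟨i, rfl⟩
        exact (Commute.zpow_right (show Commute x z from hzc x) i).eq
      rw [mem_normalizer_iff]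
      intro y
      refine ⟨fun hy => by rwa [hc y hy, mul_inv_cancel_right], fun hy => ?_⟩
      have e : x * (x * y * x⁻¹) = (x * y * x⁻¹) * x := hc _ hy
      have : y = x * y * x⁻¹ := by
        calc y = x⁻¹ * ((x * y * x⁻¹) * x) := by group
          _ = x⁻¹ * (x * (x * y * x⁻¹)) := by rw [e]
          _ = x * y * x⁻¹ := by group
      rwa [this]
    have := P.is_maximal' (P.2.to_sup_of_normal_right' hpz hle) le_sup_left
    exact this ▸ mem_sup_right (mem_zpowers z)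
  let A : Type _ := (P : Subgroup H)
  letI : CommGroup A :=
    { (inferInstance : Group (P : Subgroup H)) with
      mul_comm := fun a b => Subtype.ext (hab p hp P _ a.2 _ b.2) }
  let φ : (P : Subgroup H) →* A := MonoidHom.id _
  have key : ∀ (k : ℕ) (g₀ : H) (hk : g₀⁻¹ * z ^ k * g₀ ∈ (P : Subgroup H)),
      φ ⟨g₀⁻¹ * z ^ k * g₀, hk⟩ = φ ⟨z, hzP⟩ ^ k := by
    intro k g₀ hk
    refine Subtype.ext ?_
    show g₀⁻¹ * z ^ k * g₀ = _
    rw [(Commute.pow_right (show Commute g₀⁻¹ z from hzc g₀⁻¹) k).eq, inv_mul_cancel_right]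
    exact (SubmonoidClass.coe_pow (⟨z, hzP⟩ : (P : Subgroup H)) k).symm
  have h1 := CfsgLib.TwoFusion.TransferPow.transfer_eq_one_of_commutator φ (g := z) (by rw [hperf]; exact mem_top z)
  rw [CfsgLib.TwoFusion.TransferPow.transfer_eq_pow_index φ z hzP key] at h1
  have h2 : z ^ (P : Subgroup H).index = 1 := by
    have e := congrArg (Subgroup.subtype (P : Subgroup H)) h1
    rw [map_pow, map_one] at e
    exact e
  have h3 := orderOf_dvd_of_pow_eq_one h2
  rw [hz] at h3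
  exact P.not_dvd_index h3

theorem commute_of_cyclic_image {P Q : Type*} [Group P] [Group Q] (f : P →* Q) [IsCyclic f.range]
    (hker : f.ker ≤ center P) (a b : P) : a * b = b * a :=
  commutative_of_cyclic_center_quotient f.rangeRestrict (by rwa [MonoidHom.ker_rangeRestrict]) a b

theorem odd_sq_free {p : ℕ} (hp : p.Prime) (hp2 : p ≠ 2) : ¬ p ^ 2 ∣ 175560 := by
  intro h
  have h0 : p ∣ 175560 := (dvd_pow_self p two_ne_zero).trans h
  have h1 : p ∈ Nat.primeFactorsList 175560 := (Nat.mem_primeFactorsList (by norm_num)).mpr ⟨hp, h0⟩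
  have key : ∀ q ∈ Nat.primeFactorsList 175560, q = 2 ∨ ¬ q ^ 2 ∣ 175560 := by simp (config := {decide := true})
  exact ((key p h1).resolve_left hp2) h

variable {G : Type*} [Group G] (F : Frame G)

/-- The odd part inside the perfect subgroup. -/
def Frame.Z : Subgroup F.H₁ := F.R.subgroupOf F.H₁

/-- The involution in the perfect subgroup. -/
def Frame.tH : F.H₁ := ⟨F.E.t, le_sup_left (α := Subgroup G) ⟨lt, rfl⟩⟩

variable [Finite G]

theorem Frame.Z_le_center : F.Z ≤ center F.H₁ := fun z hz =>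
  mem_center_iff.mpr fun x => Subtype.ext (F.R_comm_H₁ (mem_subgroupOf.mp hz) x.2).symm

theorem Frame.exists_sylow : ∃ P : Sylow 2 F.H₁,
    (∀ k, (⟨F.E.v k, F.V_le_H₁ (F.E.v_mem k)⟩ : F.H₁) ∈ (P : Subgroup F.H₁)) ∧
    ∀ p ∈ (P : Subgroup F.H₁), ∃ z ∈ F.R, ∃ k, z ∈ F.H₁ ∧ (p : G) = z * F.E.v k := by
  haveI : Fact (Nat.Prime 2) := ⟨Nat.prime_two⟩
  have hp : IsPGroup 2 (F.E.V.subgroupOf F.H₁) :=
    IsPGroup.of_card (n := 3) (by rw [Nat.card_congr (subgroupOfEquivOfLe F.V_le_H₁).toEquiv, F.E.card_V]; norm_num)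
  obtain ⟨P, hP⟩ := hp.exists_le_sylow
  have hv : ∀ k, (⟨F.E.v k, F.V_le_H₁ (F.E.v_mem k)⟩ : F.H₁) ∈ (P : Subgroup F.H₁) := fun k =>
    hP (mem_subgroupOf.mpr (F.E.v_mem k))
  refine ⟨P, hv, ?_⟩
  set Pg := (P : Subgroup F.H₁).map F.H₁.subtype with hPg
  have hPgp : IsPGroup 2 Pg := P.2.map _
  set C := centralizer ({F.E.t} : Set G) with hC
  have hVPg : F.E.V ≤ Pg := by
    rintro _ ⟨k, rfl⟩
    exact ⟨_, hv k, rfl⟩
  have hVC : F.E.V ≤ C := by
    rintro _ ⟨k, rfl⟩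
    exact mem_centralizer_singleton_iff.mpr (F.inD_comm_t (F.inD_v k))
  -- an element normalising the part of the Sylow subgroup in the centraliser normalises `V`
  have hnorm : ∀ x ∈ Pg, (∀ k, x * F.E.v k * x⁻¹ ∈ C) → x ∈ normalizer (F.E.V : Set G) := by
    intro x hx h
    refine mem_normalizer_of_conj ?_
    rintro _ ⟨k, rfl⟩
    by_cases hk : F.E.v k = 1
    · rw [hk, mul_one, mul_inv_cancel]; exact one_mem _
    obtain ⟨g, hg⟩ := F.E.isConj_of_mem_range (F.E.V_le_range (F.E.v_mem k)) (F.E.v_sq k) hk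
    refine F.mem_V_of_two hPgp hVPg ?_ (mul_mem (mul_mem hx (hVPg (F.E.v_mem k))) (inv_mem hx))
    have e : x * F.E.v k * x⁻¹ = x * g * F.E.t * (x * g)⁻¹ := by rw [← hg]; group
    have h' := mem_centralizer_singleton_iff.mp (h k)
    rw [e] at h' ⊢
    exact F.E.mem_range h'
  have hcomm : ∀ x ∈ Pg, x ∈ normalizer (F.E.V : Set G) → F.InD x := by
    intro x hx hn k
    obtain ⟨i, hi⟩ := hPgp ⟨x, hx⟩
    exact F.E.comm_of_two hn (congrArg Subtype.val hi) k
  have hPgC : Pg ≤ C := by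
    by_contra hne
    haveI := hPgp.isNilpotent
    have hlt : (C.subgroupOf Pg) < ⊤ := lt_top_iff_ne_top.mpr fun h => hne (subgroupOf_eq_top.mp h)
    obtain ⟨⟨x, hx⟩, hxn, hxC⟩ := SetLike.exists_of_lt (Group.normalizerCondition_of_isNilpotent _ hlt)
    refine hxC (mem_subgroupOf.mpr (mem_centralizer_singleton_iff.mpr (F.inD_comm_t (hcomm x hx (hnorm x hx ?_)))))
    intro k
    exact mem_subgroupOf.mp ((mem_normalizer_iff.mp hxn ⟨F.E.v k, hVPg (F.E.v_mem k)⟩).mp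
      (mem_subgroupOf.mpr (hVC (F.E.v_mem k))))
  intro p hp
  have hpg : (p : G) ∈ Pg := ⟨p, hp, rfl⟩
  have hpD : F.InD (p : G) := hcomm _ hpg (hnorm _ hpg fun k =>
    mul_mem (mul_mem (hPgC hpg) (hVC (F.E.v_mem k))) (inv_mem (hPgC hpg)))
  obtain ⟨d, hd, w, hw, e⟩ := F.exists_decomp (F.inD_comm_t hpD)
  obtain ⟨m, rfl⟩ := hw
  have hwD : F.InD (F.E.j m) := by
    have h : F.InD (d⁻¹ * p) := (F.mem_R.mp hd).1.inv.mul hpD
    rwa [e, inv_mul_cancel_left] at h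
  have hm : ∀ k, m * sOf k = sOf k * m := fun k => F.E.inj (by rw [map_mul, map_mul]; exact hwD k)
  obtain ⟨k, rfl⟩ := exists_sOf_of_commute m (by simpa [sOf_two] using hm 2) (by simpa [sOf_four] using hm 4)
  refine ⟨d, hd, k, ?_, e⟩
  have h1 : d = (p : G) * (F.E.v k)⁻¹ := by rw [e]; exact (mul_inv_cancel_right d _).symm
  rw [h1]
  exact mul_mem p.2 (inv_mem (F.V_le_H₁ (F.E.v_mem k)))

theorem Frame.eq_one_of_range {x : G} (hR : x ∈ F.R) (hx : x ∈ F.E.j.range) : x = 1 := by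
  rcases F.eq_one_or_t hx (F.R_inK hR) with h | h
  · exact h
  · exact F.eq_one_of_mem hR ⟨1, by rw [F.E.v_one, h]⟩

/-- The image of the perfect subgroup modulo its odd central part is the first Janko group. -/
theorem Frame.quotient_iso [F.Z.Normal] : Cfsg.Spor.IsoJ1 (F.H₁ ⧸ F.Z) := by
  haveI : Fact (Nat.Prime 2) := ⟨Nat.prime_two⟩
  obtain ⟨P, hPv, hP⟩ := F.exists_sylow
  set π := QuotientGroup.mk' F.Z with hπ
  have hker : ∀ {x : F.H₁}, π x = 1 ↔ (x : G) ∈ F.R := by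
    intro x
    rw [hπ, QuotientGroup.mk'_apply, QuotientGroup.eq_one_iff]
    exact mem_subgroupOf
  have hperfQ : commutator (F.H₁ ⧸ F.Z) = ⊤ := by
    rw [eq_top_iff, ← map_top_of_surjective π (QuotientGroup.mk'_surjective _), ← F.perfect,
      commutator_def, map_commutator]
    exact commutator_mono le_top le_top
  have htt : orderOf (π F.tH) = 2 := by
    refine orderOf_eq_prime ?_ fun h => F.E.t_ne (F.eq_one_of_range (hker.mp h) F.t_mem_range)
    rw [← map_pow]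
    refine hker.mpr ?_
    show ((F.tH ^ 2 : F.H₁) : G) ∈ F.R
    rw [SubmonoidClass.coe_pow]
    show F.E.t ^ 2 ∈ F.R
    rw [pow_two, F.E.t_sq]; exact one_mem _
  let f : M →* F.H₁ ⧸ F.Z := π.comp (F.E.j.codRestrict F.H₁ fun m => F.range_le_H₁ ⟨m, rfl⟩)
  have hf : ∀ m, f m ∈ centralizer ({π F.tH} : Set (F.H₁ ⧸ F.Z)) := fun m => by
    refine mem_centralizer_singleton_iff.mpr ?_
    show π _ * π _ = π _ * π _
    rw [← map_mul, ← map_mul]
    congr 1
    exact Subtype.ext (F.E.t_comm m).symm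
  have hfinj : Function.Injective (f.codRestrict _ hf) := by
    rw [injective_iff_map_eq_one]
    intro m hm
    have h : π ⟨F.E.j m, F.range_le_H₁ ⟨m, rfl⟩⟩ = 1 := congrArg Subtype.val hm
    exact F.E.inj ((F.eq_one_of_range (hker.mp h) ⟨m, rfl⟩).trans (map_one _).symm)
  have hfsurj : Function.Surjective (f.codRestrict _ hf) := by
    rintro ⟨y, hy⟩
    obtain ⟨x, rfl⟩ := QuotientGroup.mk'_surjective F.Z y
    have h := mem_centralizer_singleton_iff.mp hy
    rw [← mul_inv_eq_iff_eq_mul, ← map_inv, ← map_mul, ← map_mul] at h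
    set z : G := (x : G) * F.E.t * (x : G)⁻¹ * F.E.t⁻¹ with hz
    have hzR : z ∈ F.R := by
      have h1 : π (x * F.tH * x⁻¹ * F.tH⁻¹) = 1 := by
        rw [map_mul, h, map_inv, mul_inv_cancel]
      exact hker.mp h1
    have hzx : (x : G) * F.E.t * (x : G)⁻¹ = z * F.E.t := by rw [hz]; group
    have hzt : z * F.E.t = F.E.t * z := F.inD_comm_t (F.mem_R.mp hzR).1
    have hw : z * F.E.t ∈ F.E.j.range := by
      rw [← hzx]
      refine F.E.mem_range ?_
      rw [hzx, mul_assoc, F.E.t_sq, mul_one, hzt, ← mul_assoc, F.E.t_sq, one_mul]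
    have hz1 : z = 1 := F.eq_one_of_range hzR (by
      have := mul_mem hw F.t_mem_range
      rwa [mul_assoc, F.E.t_sq, mul_one] at this)
    rw [hz1, one_mul] at hzx
    obtain ⟨d, hd, w, hw', e⟩ := F.exists_decomp (c := (x : G)) (mul_inv_eq_iff_eq_mul.mp hzx)
    obtain ⟨m, rfl⟩ := hw'
    refine ⟨m, Subtype.ext ?_⟩
    show π ⟨F.E.j m, _⟩ = π x
    rw [eq_comm, ← mul_inv_eq_one, ← map_inv, ← map_mul, hker]
    show (x : G) * (F.E.j m)⁻¹ ∈ F.R
    rw [e, mul_inv_cancel_right]; exact hd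
  let e := (MulEquiv.ofBijective _ ⟨hfinj, hfsurj⟩).symm
  refine CfsgLib.J1Recog.recognition_of_no_index_two (index_ne_two_of_perfect hperfQ) (π F.tH) htt ?_ e
  refine not_sixteen_of_central (P.mapSurjective (QuotientGroup.mk'_surjective F.Z)) ?_ e
  intro y hy
  have hy' : y ∈ (P : Subgroup F.H₁).map π := by
    rw [← Sylow.coe_mapSurjective (QuotientGroup.mk'_surjective F.Z) P]; exact hy
  obtain ⟨p, hp, rfl⟩ := hy'
  obtain ⟨z, hz, k, -, e⟩ := hP p hp
  show π p * π F.tH = π F.tH * π p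
  rw [← map_mul, ← map_mul]
  congr 1
  exact Subtype.ext (F.inD_comm_t (e ▸ (F.mem_R.mp hz).1.mul (F.inD_v k)))

theorem Frame.Z_eq_bot : F.Z = ⊥ := by
  haveI : Fact (Nat.Prime 2) := ⟨Nat.prime_two⟩
  haveI hZn : F.Z.Normal := ⟨fun n hn g => by
    rw [mem_center_iff.mp (F.Z_le_center hn) g, mul_inv_cancel_right]; exact hn⟩
  obtain ⟨φ⟩ := F.quotient_iso
  refine eq_bot_of_perfect_central F.perfect F.Z_le_center ?_
  intro p hp P
  haveI : Fact p.Prime := ⟨hp⟩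
  by_cases hp2 : p = 2
  · subst hp2
    obtain ⟨P₀, -, hP₀⟩ := F.exists_sylow
    have h₀ : ∀ a ∈ (P₀ : Subgroup F.H₁), ∀ b ∈ (P₀ : Subgroup F.H₁), a * b = b * a := by
      intro a ha b hb
      obtain ⟨z, hz, k, hzH, e⟩ := hP₀ a ha
      obtain ⟨z', hz', k', -, e'⟩ := hP₀ b hb
      refine Subtype.ext ?_
      show (a : G) * b = b * a
      have h1 : z * (b : G) = b * z := F.R_comm_H₁ hz b.2
      have h2 : F.E.v k * z' = z' * F.E.v k := (F.R_inK hz' (sOf k)).symm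
      have h3 : F.E.v k * (b : G) = b * F.E.v k := by
        rw [e', ← mul_assoc, h2, mul_assoc, F.E.v_comm k k', ← mul_assoc]
      rw [e, mul_assoc, h3, ← mul_assoc, h1, mul_assoc]
    obtain ⟨g, rfl⟩ := MulAction.exists_smul_eq F.H₁ P₀ P
    intro a ha b hb
    rw [Sylow.coe_subgroup_smul, mem_pointwise_smul_iff_inv_smul_mem] at ha hb
    have := h₀ _ ha _ hb
    simp only [← map_inv, MulAut.smul_def, MulAut.conj_apply, inv_inv] at this
    calc a * b = g * ((g⁻¹ * a * g) * (g⁻¹ * b * g)) * g⁻¹ := by group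
      _ = g * ((g⁻¹ * b * g) * (g⁻¹ * a * g)) * g⁻¹ := by rw [this]
      _ = b * a := by group
  · let f : (P : Subgroup F.H₁) →* Cfsg.Spor.J1 :=
      φ.toMonoidHom.comp ((QuotientGroup.mk' F.Z).comp (P : Subgroup F.H₁).subtype)
    obtain ⟨m, hm⟩ := IsPGroup.iff_card.mp P.2
    obtain ⟨n, -, hnr⟩ := (Nat.dvd_prime_pow hp).mp (hm ▸ Subgroup.card_range_dvd f)
    have hcyc : IsCyclic f.range := by
      have hd := card_subgroup_dvd_card f.range
      rw [J1.card_J1, hnr] at hd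
      have hn1 : n ≤ 1 := by
        by_contra h
        exact odd_sq_free hp hp2 ((pow_dvd_pow p (show 2 ≤ n by omega)).trans hd)
      interval_cases n
      · haveI : Subsingleton f.range := (Nat.card_eq_one_iff_unique.mp (by rw [hnr, pow_zero])).1
        infer_instance
      · exact isCyclic_of_prime_card (p := p) (by rw [hnr, pow_one])
    intro a ha b hb
    refine congrArg Subtype.val (commute_of_cyclic_image f ?_ (⟨a, ha⟩ : (P : Subgroup F.H₁)) ⟨b, hb⟩)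
    intro x hx
    rw [MonoidHom.mem_ker] at hx
    have h1 : (x : F.H₁) ∈ F.Z :=
      (QuotientGroup.eq_one_iff (N := F.Z) (x : F.H₁)).mp (φ.map_eq_one_iff.mp hx)
    exact mem_center_iff.mpr fun y => Subtype.ext (mem_center_iff.mp (F.Z_le_center h1) y)

theorem Frame.iso : Cfsg.Spor.IsoJ1 F.H₁ := by
  haveI hZn : F.Z.Normal := by rw [F.Z_eq_bot]; infer_instance
  obtain ⟨φ⟩ := F.quotient_iso
  exact ⟨((QuotientGroup.quotientBot).symm.trans (QuotientGroup.quotientMulEquivOfEq F.Z_eq_bot).symm).trans φ⟩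

theorem Frame.card_H₁ : Nat.card F.H₁ = 175560 := by
  obtain ⟨φ⟩ := F.iso
  rw [Nat.card_congr φ.toEquiv, J1.card_J1]

theorem Frame.eq_one_of_H₁ {x : G} (hR : x ∈ F.R) (hx : x ∈ F.H₁) : x = 1 := by
  have h : (⟨x, hx⟩ : F.H₁) ∈ F.Z := mem_subgroupOf.mpr hR
  rw [F.Z_eq_bot, mem_bot] at h
  exact congrArg Subtype.val h

/-- A 2-element of the perfect subgroup is conjugate into `V`. -/
theorem Frame.conj_into_V {x : G} (hx : x ∈ F.H₁) {n : ℕ} (h : x ^ 2 ^ n = 1) :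
    ∃ y ∈ F.H₁, ∃ k, y * x * y⁻¹ = F.E.v k := by
  haveI : Fact (Nat.Prime 2) := ⟨Nat.prime_two⟩
  obtain ⟨P, -, hP⟩ := F.exists_sylow
  have hp : IsPGroup 2 (zpowers (⟨x, hx⟩ : F.H₁)) := by
    obtain ⟨i, -, hi⟩ := (Nat.dvd_prime_pow Nat.prime_two).mp
      (orderOf_dvd_of_pow_eq_one (show (⟨x, hx⟩ : F.H₁) ^ 2 ^ n = 1 from Subtype.ext h))
    exact IsPGroup.of_card (n := i) (by rw [Nat.card_zpowers, hi])
  obtain ⟨Q, hQ⟩ := hp.exists_le_sylow
  obtain ⟨g, hg⟩ := MulAction.exists_smul_eq F.H₁ Q P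
  have hm : MulAut.conj g ⟨x, hx⟩ ∈ (P : Subgroup F.H₁) := by
    rw [← hg, Sylow.coe_subgroup_smul]
    exact Subgroup.smul_mem_pointwise_smul _ (MulAut.conj g) _ (hQ (mem_zpowers _))
  obtain ⟨z, hz, k, hzH, e⟩ := hP _ hm
  refine ⟨g, g.2, k, ?_⟩
  rw [F.eq_one_of_H₁ hz hzH, one_mul] at e
  exact e

theorem Frame.conj_t_of_v {k : Fin 8} (hk : k ≠ 0) : ∃ y ∈ F.H₁, y * F.E.t * y⁻¹ = F.E.v k := by
  obtain ⟨i, hi⟩ := F.n_orbit k hk
  refine ⟨F.n₀ ^ i.val, pow_mem F.n₀_mem _, ?_⟩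
  rw [← F.E.v_one, F.acts_n₀.pow i.val 1, hi]

/-- All involutions of the perfect subgroup are conjugate in it to `t`. -/
theorem Frame.conj_t {x : G} (hx : x ∈ F.H₁) (h2 : x * x = 1) (h1 : x ≠ 1) :
    ∃ y ∈ F.H₁, y * F.E.t * y⁻¹ = x := by
  obtain ⟨y, hy, k, hk⟩ := F.conj_into_V hx (n := 1) (by rw [pow_one, pow_two, h2])
  obtain ⟨z, hz, hze⟩ := F.conj_t_of_v (k := k) (fun e => by
    rw [e, F.E.v_zero, mul_inv_eq_one, mul_eq_left] at hk
    exact h1 hk)
  refine ⟨y⁻¹ * z, mul_mem (inv_mem hy) hz, ?_⟩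
  calc y⁻¹ * z * F.E.t * (y⁻¹ * z)⁻¹ = y⁻¹ * (z * F.E.t * z⁻¹) * y := by group
    _ = x := by rw [hze, ← hk]; group

theorem Frame.sq_eq_one_of_two {x : G} (hx : x ∈ F.H₁) {n : ℕ} (h : x ^ 2 ^ n = 1) : x * x = 1 := by
  obtain ⟨y, hy, k, hk⟩ := F.conj_into_V hx h
  have e : x = y⁻¹ * F.E.v k * y := by rw [← hk]; group
  rw [e, show y⁻¹ * F.E.v k * y * (y⁻¹ * F.E.v k * y) = y⁻¹ * (F.E.v k * F.E.v k) * y by group, F.E.v_sq]
  group

theorem Frame.mem_range_of_comm {x : G} (hx : x ∈ F.H₁) (hc : x * F.E.t = F.E.t * x) : x ∈ F.E.j.range := by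
  obtain ⟨d, hd, w, hw, rfl⟩ := F.exists_decomp hc
  have hdH : d ∈ F.H₁ := by
    have := mul_mem hx (inv_mem (F.range_le_H₁ hw))
    rwa [mul_inv_cancel_right] at this
  rwa [F.eq_one_of_H₁ hd hdH, one_mul]

end CfsgLib.J1Weak
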