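import Cfsg.Agent.Lib.J1Weak.Auto
import Mathlib.GroupTheory.Nilpotent

/-!
# The odd part of the centraliser and the subgroup generated by two conjugates of the weak closure
-/

set_option autoImplicit false
set_option maxRecDepth 8000

namespace CfsgLib.J1Weak

open Subgroup CfsgLib.J1Recog

local notation "A5" => alternatingGroup (Fin 5)

theorem xorF_aux : ∀ a b : Fin 8, xorF a (xorF b a) = b := by decide +kernel

theorem xorF_comm : ∀ a b : Fin 8, xorF a b = xorF b a := by decide +kernel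

theorem swap_period : (lin 1 2 6)^[21] ≠ id ∧ (lin 1 4 2)^[21] ≠ id ∧ (lin 1 6 4)^[21] ≠ id := by
  decide +kernel

theorem mem_normalizer_of_conj {G : Type*} [Group G] [Finite G] {V : Subgroup G} {n : G}
    (h : ∀ x ∈ V, n * x * n⁻¹ ∈ V) : n ∈ normalizer (V : Set G) := by
  have heq : V.map (MulAut.conj n).toMonoidHom = V := by
    refine eq_of_le_of_card_ge ?_ (by rw [card_map_of_injective (MulAut.conj n).injective])
    rintro _ ⟨x, hx, rfl⟩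
    exact h x hx
  rw [mem_normalizer_iff]
  intro x
  refine ⟨h x, fun hx => ?_⟩
  rw [← heq] at hx
  obtain ⟨y, hy, e⟩ := hx
  have : y = x := (MulAut.conj n).injective e
  exact this ▸ hy

/-- The weak closure with an element of order 7 of the normaliser of `V`. -/
structure Frame (G : Type*) [Group G] where
  E : Weak G
  g : G
  L : Fin 8 → Fin 8
  r : Fin 7
  g_mem : g ∈ normalizer (E.V : Set G)
  g_acts : E.Acts g L
  seven : L^[7] = id
  move : L 1 ≠ 1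
  n_acts : E.Acts (g * E.j lc * g⁻¹ * (E.j lc)⁻¹) (comL L)
  n_fixed : ∀ k, comL L k = k → k = 0
  n_surj : ∀ e, ∃ k, comL L k = xorF k e
  n_g : comL L ∘ L = L ∘ comL L
  n_lc : Lc ∘ comL L = (comL L)^[r.val] ∘ Lc
  n_orbit : ∀ k, k ≠ 0 → ∃ i : Fin 7, (comL L)^[i.val] 1 = k

theorem Weak.exists_frame {G : Type*} [Group G] [Finite G] (E : Weak G) :
    ∃ F : Frame G, F.E = E := by
  obtain ⟨-, g, L, r, h1, h2, h3, h4, h5, h6, h7, h8, h9, h10⟩ := E.card_rho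
  exact ⟨⟨E, g, L, r, h1, h2, h3, h4, h5, h6, h7, h8, h9, h10⟩, rfl⟩

variable {G : Type*} [Group G] (F : Frame G)

/-- The commutator element. -/
def Frame.n₀ : G := F.g * F.E.j lc * F.g⁻¹ * (F.E.j lc)⁻¹

/-- Elements centralising the weak closure. -/
def Frame.InK (x : G) : Prop := ∀ m : M, x * F.E.j m = F.E.j m * x

/-- Elements centralising `V`. -/
def Frame.InD (x : G) : Prop := ∀ k, x * F.E.v k = F.E.v k * x

/-- The odd part of the centraliser. -/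
def Frame.R : Subgroup G := centralizer (F.E.V : Set G) ⊓ centralizer ({F.n₀} : Set G)

theorem Frame.mem_R {x : G} : x ∈ F.R ↔ F.InD x ∧ x * F.n₀ = F.n₀ * x := by
  rw [Frame.R, mem_inf, mem_centralizer_singleton_iff, mem_centralizer_iff]
  refine and_congr_left' ⟨fun h k => (h _ (F.E.v_mem k)).symm, ?_⟩
  rintro h _ ⟨k, rfl⟩
  exact (h k).symm

variable {F}

theorem Frame.InD.mul {x y : G} (hx : F.InD x) (hy : F.InD y) : F.InD (x * y) := fun k =>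
  (Commute.mul_left (hx k) (hy k) : _)

theorem Frame.InD.inv {x : G} (hx : F.InD x) : F.InD x⁻¹ := fun k => (Commute.inv_left (hx k) : _)

theorem Frame.InK.inD {x : G} (hx : F.InK x) : F.InD x := fun k => hx (sOf k)

theorem Frame.InK.mul {x y : G} (hx : F.InK x) (hy : F.InK y) : F.InK (x * y) := fun m =>
  (Commute.mul_left (hx m) (hy m) : _)

theorem Frame.InK.inv {x : G} (hx : F.InK x) : F.InK x⁻¹ := fun m => (Commute.inv_left (hx m) : _)

variable (F)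

theorem Frame.inD_v (k : Fin 8) : F.InD (F.E.v k) := F.E.v_comm k

theorem Frame.inD_conj {x : G} (hx : F.InD x) {n : G} (hn : n ∈ normalizer (F.E.V : Set G)) :
    F.InD (n * x * n⁻¹) := by
  intro k
  obtain ⟨l, hl⟩ := (mem_normalizer_iff.mp (inv_mem hn) _).mp (F.E.v_mem k)
  rw [inv_inv] at hl
  calc n * x * n⁻¹ * F.E.v k = n * (x * (n⁻¹ * F.E.v k * n)) * n⁻¹ := by group
    _ = n * (n⁻¹ * F.E.v k * n * x) * n⁻¹ := by rw [← hl, hx l]
    _ = F.E.v k * (n * x * n⁻¹) := by group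

theorem Frame.inD_comm_t {x : G} (hx : F.InD x) : x * F.E.t = F.E.t * x := by
  rw [← F.E.v_one]; exact hx 1

theorem Frame.inK_t : F.InK F.E.t := F.E.t_comm

theorem Frame.eq_one_or_t {x : G} (hx : x ∈ F.E.j.range) (hK : F.InK x) : x = 1 ∨ x = F.E.t := by
  obtain ⟨m, rfl⟩ := hx
  have h : ∀ m', m * m' = m' * m := fun m' => F.E.inj (by rw [map_mul, map_mul]; exact hK m')
  rcases center_M m (h lc) (h ld) with rfl | rfl
  · exact Or.inl (map_one _)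
  · exact Or.inr rfl

variable [Finite G]

theorem Frame.v_move : F.E.v (F.L 1) ≠ 1 ∧ F.E.v (F.L 1) ≠ F.E.t := by
  refine ⟨fun h => ?_, fun h => F.move (F.E.v_inj (h.trans F.E.v_one.symm))⟩
  rw [← F.E.v_zero] at h
  exact absurd (F.g_acts.eq_zero (F.E.v_inj h)) (by decide)

theorem Frame.exists_inK {d : G} (hd : F.InD d) : ∃ k, F.InK (d * F.E.v k) :=
  F.E.exists_central hd

theorem Frame.comm_inK {x y : G} (hx : F.InD x) (hy : F.InD y) : F.InK (x * y * x⁻¹ * y⁻¹) := by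
  obtain ⟨a, ha⟩ := F.exists_inK hx
  obtain ⟨b, hb⟩ := F.exists_inK hy
  have e : x * y * x⁻¹ * y⁻¹ =
      (x * F.E.v a) * (y * F.E.v b) * (x * F.E.v a)⁻¹ * (y * F.E.v b)⁻¹ := by
    have h1 : F.E.v a * (y * F.E.v b) * (F.E.v a)⁻¹ = y * F.E.v b := by
      rw [← hb.inD a, mul_inv_cancel_right]
    have h2 : F.E.v b * x⁻¹ * (F.E.v b)⁻¹ = x⁻¹ := by
      rw [← hx.inv b, mul_inv_cancel_right]
    calc x * y * x⁻¹ * y⁻¹ = x * y * (F.E.v b * x⁻¹ * (F.E.v b)⁻¹) * y⁻¹ := by rw [h2]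
      _ = x * (y * F.E.v b) * x⁻¹ * (y * F.E.v b)⁻¹ := by group
      _ = x * (F.E.v a * (y * F.E.v b) * (F.E.v a)⁻¹) * x⁻¹ * (y * F.E.v b)⁻¹ := by rw [h1]
      _ = _ := by group
  rw [e]
  exact ((ha.mul hb).mul ha.inv).mul hb.inv

theorem Frame.comm_eq_one {x y : G} (hx : F.InD x) (hy : F.InD y) (hV : x * y * x⁻¹ * y⁻¹ ∈ F.E.V) :
    x * y * x⁻¹ * y⁻¹ = 1 := by
  rcases F.eq_one_or_t (F.E.V_le_range hV) (F.comm_inK hx hy) with h | h
  · exact h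
  exfalso
  have h2 := F.comm_inK (F.inD_conj hx F.g_mem) (F.inD_conj hy F.g_mem)
  have e : F.g * x * F.g⁻¹ * (F.g * y * F.g⁻¹) * (F.g * x * F.g⁻¹)⁻¹ * (F.g * y * F.g⁻¹)⁻¹ =
      F.E.v (F.L 1) := by
    rw [← F.g_acts 1, F.E.v_one, ← h]; group
  rw [e] at h2
  rcases F.eq_one_or_t (F.E.V_le_range (F.E.v_mem _)) h2 with h3 | h3
  · exact F.v_move.1 h3
  · exact F.v_move.2 h3

/-- Elements stabilising the cosets of `V` in its centraliser. -/
def Frame.Mv (x : G) : Prop :=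
  x ∈ normalizer (F.E.V : Set G) ∧ ∀ d, F.InD d → x * d * x⁻¹ * d⁻¹ ∈ F.E.V

variable {F}

theorem Frame.Mv.mul {x y : G} (hx : F.Mv x) (hy : F.Mv y) : F.Mv (x * y) := by
  refine ⟨mul_mem hx.1 hy.1, fun d hd => ?_⟩
  rw [show x * y * d * (x * y)⁻¹ * d⁻¹ = x * (y * d * y⁻¹ * d⁻¹) * x⁻¹ * (x * d * x⁻¹ * d⁻¹) by group]
  exact mul_mem ((mem_normalizer_iff.mp hx.1 _).mp (hy.2 d hd)) (hx.2 d hd)

theorem Frame.Mv.inv {x : G} (hx : F.Mv x) : F.Mv x⁻¹ := by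
  refine ⟨inv_mem hx.1, fun d hd => ?_⟩
  have h := (mem_normalizer_iff.mp (inv_mem hx.1) _).mp (inv_mem (hx.2 d hd))
  rw [inv_inv] at h ⊢
  rwa [show x⁻¹ * (x * d * x⁻¹ * d⁻¹)⁻¹ * x = x⁻¹ * d * x * d⁻¹ by group] at h

theorem Frame.Mv.pow {x : G} (hx : F.Mv x) : ∀ n : ℕ, F.Mv (x ^ n)
  | 0 => by
    rw [pow_zero]
    exact ⟨one_mem _, fun d _ => by rw [one_mul, inv_one, mul_one, mul_inv_cancel]; exact one_mem _⟩
  | n + 1 => by rw [pow_succ]; exact (Frame.Mv.pow hx n).mul hx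

theorem Frame.Mv.conj {x y : G} (hx : F.Mv x) (hy : y ∈ normalizer (F.E.V : Set G)) :
    F.Mv (y * x * y⁻¹) := by
  refine ⟨mul_mem (mul_mem hy hx.1) (inv_mem hy), fun d hd => ?_⟩
  have h := (mem_normalizer_iff.mp hy _).mp (hx.2 _ (F.inD_conj hd (inv_mem hy)))
  rwa [show y * (x * (y⁻¹ * d * y⁻¹⁻¹) * x⁻¹ * (y⁻¹ * d * y⁻¹⁻¹)⁻¹) * y⁻¹ =
    y * x * y⁻¹ * d * (y * x * y⁻¹)⁻¹ * d⁻¹ by group] at h

theorem Frame.Mv.act_eq {x y : G} (hx : F.Mv x) (hy : F.Mv y) {L' : Fin 8 → Fin 8}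
    (h1 : F.E.Acts x L') (h2 : F.E.Acts y L') {d : G} (hd : F.InD d) :
    x * d * x⁻¹ = y * d * y⁻¹ := by
  have hz : F.InD (x⁻¹ * y) := by
    intro k
    calc x⁻¹ * y * F.E.v k = x⁻¹ * (y * F.E.v k * y⁻¹) * y := by group
      _ = x⁻¹ * (x * F.E.v k * x⁻¹) * y := by rw [h1 k, h2 k]
      _ = F.E.v k * (x⁻¹ * y) := by group
  have h := F.comm_eq_one hz hd ((hx.inv.mul hy).2 d hd)
  calc x * d * x⁻¹ = x * ((x⁻¹ * y) * d * (x⁻¹ * y)⁻¹ * d⁻¹) * d * x⁻¹ := by rw [h]; group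
    _ = x * ((x⁻¹ * y) * d * (x⁻¹ * y)⁻¹) * x⁻¹ := by group
    _ = y * d * y⁻¹ := by group

variable (F)

theorem Frame.mv_lc : F.Mv (F.E.j lc) := by
  refine ⟨F.E.acts_mem F.E.acts_lc, fun d hd => ?_⟩
  obtain ⟨k, hk⟩ := F.exists_inK hd
  have e : F.E.j lc * d * (F.E.j lc)⁻¹ * d⁻¹ = F.E.v (Lc k) * F.E.v k := by
    have h1 : d = d * F.E.v k * F.E.v k := by rw [mul_assoc, F.E.v_sq, mul_one]
    conv_lhs => rw [h1]
    calc F.E.j lc * (d * F.E.v k * F.E.v k) * (F.E.j lc)⁻¹ * (d * F.E.v k * F.E.v k)⁻¹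
        = (F.E.j lc * (d * F.E.v k)) * (F.E.j lc)⁻¹ * (F.E.j lc * F.E.v k * (F.E.j lc)⁻¹) *
          (F.E.v k)⁻¹ * (d * F.E.v k)⁻¹ := by group
      _ = d * F.E.v k * F.E.v (Lc k) * (F.E.v k)⁻¹ * (d * F.E.v k)⁻¹ := by
        rw [F.E.lc_v, ← hk lc, mul_inv_cancel_right]
      _ = F.E.v (Lc k) * F.E.v k := by
        rw [F.E.v_inv, mul_assoc (d * F.E.v k), F.E.v_mul (Lc k) k, hk.inD, mul_inv_cancel_right]
  rw [e]
  exact mul_mem (F.E.v_mem _) (F.E.v_mem _)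

theorem Frame.mv_n₀ : F.Mv F.n₀ := (F.mv_lc.conj F.g_mem).mul F.mv_lc.inv

theorem Frame.acts_n₀ : F.E.Acts F.n₀ (comL F.L) := F.n_acts

theorem Frame.R_conj {y : G} (hy : y ∈ normalizer (F.E.V : Set G)) {i : ℕ}
    (hc : F.E.Acts (y * F.n₀ * y⁻¹) ((comL F.L)^[i])) {d : G} (hd : d ∈ F.R) : y⁻¹ * d * y ∈ F.R := by
  obtain ⟨hdD, hdn⟩ := F.mem_R.mp hd
  have h := (F.mv_n₀.conj hy).act_eq (F.mv_n₀.pow i) hc (F.acts_n₀.pow i) hdD
  rw [← (Commute.pow_right (show Commute d F.n₀ from hdn) i).eq, mul_inv_cancel_right,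
    mul_inv_eq_iff_eq_mul] at h
  refine F.mem_R.mpr ⟨?_, ?_⟩
  · simpa using F.inD_conj hdD (inv_mem hy)
  · calc y⁻¹ * d * y * F.n₀ = y⁻¹ * (d * (y * F.n₀ * y⁻¹)) * y := by group
      _ = y⁻¹ * (y * F.n₀ * y⁻¹ * d) * y := by rw [h]
      _ = F.n₀ * (y⁻¹ * d * y) := by group

theorem Frame.R_conj_g {d : G} (hd : d ∈ F.R) : F.g⁻¹ * d * F.g ∈ F.R := by
  refine F.R_conj F.g_mem (i := 1) ?_ hd
  have hgi : F.E.Acts F.g⁻¹ (F.L^[6]) := F.g_acts.inv (by rw [← Function.iterate_succ']; exact F.seven)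
  have h := (F.g_acts.mul F.acts_n₀).mul hgi
  rwa [← F.n_g, Function.comp_assoc, ← Function.iterate_succ', F.seven, Function.comp_id,
    ← Function.iterate_one (comL F.L)] at h

theorem Frame.R_conj_lc {d : G} (hd : d ∈ F.R) : (F.E.j lc)⁻¹ * d * F.E.j lc ∈ F.R := by
  refine F.R_conj (F.E.acts_mem F.E.acts_lc) (i := F.r.val) ?_ hd
  have hmi : F.E.Acts (F.E.j lc)⁻¹ (Lc^[2]) := F.E.acts_lc.inv (by rw [← Function.iterate_succ']; exact Lc_cube)
  have h := (F.E.acts_lc.mul F.acts_n₀).mul hmi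
  rwa [F.n_lc, Function.comp_assoc, ← Function.iterate_succ', Lc_cube, Function.comp_id] at h

theorem Frame.eq_one_of_mem {x : G} (hR : x ∈ F.R) (hV : x ∈ F.E.V) : x = 1 := by
  obtain ⟨k, rfl⟩ := hV
  have h := F.acts_n₀ k
  rw [← (F.mem_R.mp hR).2, mul_inv_cancel_right] at h
  rw [F.n_fixed k (F.E.v_inj h).symm, F.E.v_zero]

theorem Frame.R_comm_lc {d : G} (hd : d ∈ F.R) : d * F.E.j lc = F.E.j lc * d := by
  have h1 : (F.E.j lc)⁻¹ * d * (F.E.j lc)⁻¹⁻¹ * d⁻¹ ∈ F.E.V := F.mv_lc.inv.2 d (F.mem_R.mp hd).1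
  rw [inv_inv] at h1
  have h2 := F.eq_one_of_mem (mul_mem (F.R_conj_lc hd) (inv_mem hd)) h1
  rw [mul_inv_eq_one, mul_assoc, inv_mul_eq_iff_eq_mul] at h2
  exact h2

theorem Frame.R_inK {d : G} (hd : d ∈ F.R) : F.InK d := by
  obtain ⟨k, hk⟩ := F.exists_inK (F.mem_R.mp hd).1
  have h1 : F.E.j lc * F.E.v k = F.E.v k * F.E.j lc := by
    refine mul_left_cancel (a := d) ?_
    rw [← mul_assoc, F.R_comm_lc hd, mul_assoc, ← hk lc, mul_assoc]
  have h2 : Lc k = k := F.E.v_inj (by rw [← F.E.lc_v, h1, mul_inv_cancel_right])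
  have h3 : F.InK (F.E.v k) := by
    rcases Lc_fixed k h2 with rfl | rfl
    · intro m; rw [F.E.v_zero, one_mul, mul_one]
    · rw [F.E.v_one]; exact F.inK_t
  have := hk.mul h3.inv
  rwa [mul_inv_cancel_right] at this

theorem Frame.exists_R {d : G} (hd : F.InD d) : ∃ k, d * F.E.v k ∈ F.R := by
  obtain ⟨e, he⟩ := F.mv_n₀.2 d hd
  obtain ⟨k, hk⟩ := F.n_surj e
  refine ⟨k, F.mem_R.mpr ⟨hd.mul (F.inD_v k), ?_⟩⟩
  symm
  calc F.n₀ * (d * F.E.v k) = (F.n₀ * d * F.n₀⁻¹ * d⁻¹) * d * (F.n₀ * F.E.v k * F.n₀⁻¹) * F.n₀ := by group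
    _ = d * (F.E.v e * F.E.v (xorF k e)) * F.n₀ := by
      rw [← he, F.acts_n₀ k, hk, ← hd e, mul_assoc d]
    _ = d * F.E.v k * F.n₀ := by rw [F.E.v_mul, xorF_aux]

/-- A 2-subgroup containing `V` meets the weak closure in `V`. -/
theorem Frame.mem_V_of_two {P : Subgroup G} (hP : IsPGroup 2 P) (hV : F.E.V ≤ P) {x : G} (hx : x ∈ F.E.j.range)
    (hxP : x ∈ P) : x ∈ F.E.V := by
  haveI : Fact (Nat.Prime 2) := ⟨Nat.prime_two⟩
  have hle : F.E.V ≤ F.E.j.range ⊓ P := le_inf F.E.V_le_range hV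
  obtain ⟨n, hn⟩ := IsPGroup.iff_card.mp (hP.to_le (inf_le_right : F.E.j.range ⊓ P ≤ _))
  have hd := card_dvd_of_le (inf_le_left : F.E.j.range ⊓ P ≤ F.E.j.range)
  rw [F.E.card_range, hn] at hd
  have h3 : n ≤ 3 := by
    by_contra h
    have := (pow_dvd_pow 2 (show 4 ≤ n by omega)).trans hd
    norm_num at this
  rw [eq_of_le_of_card_ge hle (by
    rw [F.E.card_V, hn]
    calc 2 ^ n ≤ 2 ^ 3 := Nat.pow_le_pow_right (by norm_num) h3
      _ = 8 := by norm_num)]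
  exact ⟨hx, hxP⟩

theorem Frame.exists_conj_normalizer {c : G} (hc : c * F.E.t = F.E.t * c) :
    ∃ w ∈ F.E.j.range, c * w ∈ normalizer (F.E.V : Set G) := by
  haveI : Fact (Nat.Prime 2) := ⟨Nat.prime_two⟩
  have hci : c⁻¹ * F.E.t = F.E.t * c⁻¹ := (Commute.inv_left (show Commute c F.E.t from hc)).eq
  set V' := F.E.V.map (MulAut.conj c⁻¹).toMonoidHom with hV'
  have hV'le : V' ≤ F.E.j.range := by
    rintro _ ⟨x, hx, rfl⟩
    exact F.E.conj_range hci (F.E.V_le_range hx)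
  have hV'c : Nat.card V' = 8 := by rw [hV', card_map_of_injective (MulAut.conj c⁻¹).injective, F.E.card_V]
  have hp : ∀ {A : Subgroup G}, A ≤ F.E.j.range → Nat.card A = 8 → IsPGroup 2 (A.subgroupOf F.E.j.range) :=
    fun hA hc8 => IsPGroup.of_card (n := 3) (by rw [Nat.card_congr (subgroupOfEquivOfLe hA).toEquiv, hc8]; norm_num)
  obtain ⟨P, hP⟩ := (hp F.E.V_le_range F.E.card_V).exists_le_sylow
  obtain ⟨Q, hQ⟩ := (hp hV'le hV'c).exists_le_sylow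
  obtain ⟨w, hw⟩ := MulAction.exists_smul_eq F.E.j.range P Q
  have hQeq : (Q : Subgroup F.E.j.range) ≤ V'.subgroupOf F.E.j.range := by
    refine (eq_of_le_of_card_ge hQ ?_).ge
    rw [Nat.card_congr (subgroupOfEquivOfLe hV'le).toEquiv, hV'c]
    obtain ⟨n, hn⟩ := IsPGroup.iff_card.mp Q.2
    have hd := card_subgroup_dvd_card (Q : Subgroup F.E.j.range)
    rw [F.E.card_range, hn] at hd
    rw [hn]
    by_contra h
    have h4 : 4 ≤ n := by
      by_contra h4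
      have := Nat.pow_le_pow_right (show 0 < 2 by norm_num) (show n ≤ 3 by omega)
      omega
    have := (pow_dvd_pow 2 h4).trans hd
    norm_num at this
  refine ⟨w, w.2, mem_normalizer_of_conj fun x hx => ?_⟩
  have h1 : MulAut.conj w ⟨x, F.E.V_le_range hx⟩ ∈ (Q : Subgroup F.E.j.range) := by
    rw [← hw, Sylow.coe_subgroup_smul]
    exact Subgroup.smul_mem_pointwise_smul _ (MulAut.conj w) _ (hP (mem_subgroupOf.mpr hx))
  obtain ⟨y, hy, e⟩ := mem_subgroupOf.mp (hQeq h1)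
  have e' : c⁻¹ * y * c = (w : G) * x * (w : G)⁻¹ := by simpa using e
  rw [show c * w * x * (c * w)⁻¹ = c * ((w : G) * x * (w : G)⁻¹) * c⁻¹ by group, ← e']
  rwa [show c * (c⁻¹ * y * c) * c⁻¹ = y by group]

/-- The centraliser of the involution is `R` times the weak closure. -/
theorem Frame.exists_decomp {c : G} (hc : c * F.E.t = F.E.t * c) :
    ∃ d ∈ F.R, ∃ w ∈ F.E.j.range, c = d * w := by
  obtain ⟨w, hw, hn⟩ := F.exists_conj_normalizer hc
  have hnt : c * w * F.E.t = F.E.t * (c * w) := by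
    obtain ⟨m, rfl⟩ := hw
    exact (Commute.mul_left hc (F.E.t_comm m).symm).eq
  have h1 := (F.E.rho_one_iff (n := ⟨c * w, hn⟩)).mpr hnt
  have h21 : (⇑(F.E.rho ⟨c * w, hn⟩))^[21] = id := by
    have h := orderOf_dvd_natCard (F.E.rho.rangeRestrict ⟨c * w, hn⟩)
    rw [F.E.card_rho.1, orderOf_dvd_iff_pow_eq_one] at h
    rw [← Equiv.Perm.coe_pow]
    exact congrArg (fun z : F.E.rho.range => ⇑(z.1)) h
  obtain ⟨i, hi⟩ : ∃ i : Fin 3, ⇑(F.E.rho ⟨c * w, hn⟩) = Lc^[i.val] := by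
    rcases F.E.stab_mem ⟨_, rfl⟩ h1 with h | h | h | h
    · exact h
    all_goals
      rw [h] at h21
      first
        | exact absurd h21 swap_period.1
        | exact absurd h21 swap_period.2.1
        | exact absurd h21 swap_period.2.2
  have hD : F.InD (c * w * (F.E.j lc ^ i.val)⁻¹) := by
    intro k
    obtain ⟨l, hl⟩ := (F.E.acts_lc.pow i.val).bijective.2 k
    have e1 := F.E.acts_rho ⟨c * w, hn⟩ l
    rw [hi, hl] at e1
    simp only at e1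
    have e2 := F.E.acts_lc.pow i.val l
    rw [hl] at e2
    have e3 : (F.E.j lc ^ i.val)⁻¹ * F.E.v k = F.E.v l * (F.E.j lc ^ i.val)⁻¹ := by rw [← e2]; group
    rw [mul_assoc (c * w), e3, ← mul_assoc (c * w), show c * w * F.E.v l = F.E.v k * (c * w) from
      mul_inv_eq_iff_eq_mul.mp e1, mul_assoc (F.E.v k)]
  obtain ⟨k, hk⟩ := F.exists_R hD
  refine ⟨_, hk, F.E.v k * F.E.j lc ^ i.val * w⁻¹,
    mul_mem (mul_mem (F.E.V_le_range (F.E.v_mem k)) (pow_mem (show F.E.j lc ∈ F.E.j.range from ⟨lc, rfl⟩) _)) (inv_mem hw), ?_⟩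
  calc c = c * w * (F.E.j lc ^ i.val)⁻¹ * (F.E.v k * F.E.v k) * F.E.j lc ^ i.val * w⁻¹ := by
        rw [F.E.v_sq]; group
    _ = _ := by group

/-- The subgroup generated by two conjugates of the weak closure. -/
def Frame.H₁ : Subgroup G := F.E.j.range ⊔ F.E.j.range.map (MulAut.conj F.g).toMonoidHom

theorem Frame.range_le_H₁ : F.E.j.range ≤ F.H₁ := le_sup_left

theorem Frame.V_le_H₁ : F.E.V ≤ F.H₁ := F.E.V_le_range.trans F.range_le_H₁

theorem Frame.t_mem_range : F.E.t ∈ F.E.j.range := ⟨lt, rfl⟩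

theorem Frame.R_comm_H₁ {d x : G} (hd : d ∈ F.R) (hx : x ∈ F.H₁) : d * x = x * d := by
  have hle : F.H₁ ≤ centralizer ({d} : Set G) := by
    refine sup_le ?_ ?_
    · rintro _ ⟨m, rfl⟩
      exact mem_centralizer_singleton_iff.mpr (F.R_inK hd m).symm
    · rintro _ ⟨_, ⟨m, rfl⟩, rfl⟩
      refine mem_centralizer_singleton_iff.mpr ?_
      show F.g * F.E.j m * F.g⁻¹ * d = d * (F.g * F.E.j m * F.g⁻¹)
      calc F.g * F.E.j m * F.g⁻¹ * d = F.g * (F.E.j m * (F.g⁻¹ * d * F.g)) * F.g⁻¹ := by group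
        _ = F.g * ((F.g⁻¹ * d * F.g) * F.E.j m) * F.g⁻¹ := by rw [F.R_inK (F.R_conj_g hd) m]
        _ = d * (F.g * F.E.j m * F.g⁻¹) := by group
  exact (mem_centralizer_singleton_iff.mp (hle hx)).symm

theorem Frame.n₀_mem : F.n₀ ∈ F.H₁ :=
  mul_mem (mem_sup_right (mem_map_of_mem _ ⟨lc, rfl⟩)) (inv_mem (F.range_le_H₁ ⟨lc, rfl⟩))

theorem Frame.V_le_commutator : F.E.V ≤ ⁅F.H₁, F.H₁⁆ := by
  rintro _ ⟨k, rfl⟩
  obtain ⟨l, hl⟩ := F.n_surj k
  have e : F.E.v k = F.n₀ * F.E.v l * F.n₀⁻¹ * (F.E.v l)⁻¹ := by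
    rw [F.acts_n₀ l, hl, F.E.v_inv, F.E.v_mul, xorF_comm, xorF_cancel]
  rw [e, ← commutatorElement_def]
  exact commutator_mem_commutator F.n₀_mem (F.V_le_H₁ (F.E.v_mem l))

theorem Frame.map_le_commutator (f : M →* G) (hf : f.range ≤ F.H₁) (h1 : f lt ∈ F.E.V) :
    f.range ≤ ⁅F.H₁, F.H₁⁆ := by
  have hA : ∀ a : A5, f (1, a) ∈ ⁅F.H₁, F.H₁⁆ := by
    intro a
    have h : (f.comp (MonoidHom.inr _ _)) a ∈
        (commutator A5).map (f.comp (MonoidHom.inr (Multiplicative (ZMod 2)) A5)) :=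
      mem_map_of_mem _ (by rw [commutator_alternatingGroup_eq_top (by simp)]; exact mem_top a)
    rw [commutator_def, map_commutator] at h
    refine commutator_mono ?_ ?_ h <;>
    · rintro _ ⟨b, -, rfl⟩
      exact hf ⟨_, rfl⟩
  rintro _ ⟨m, rfl⟩
  have hz : ∀ z : Multiplicative (ZMod 2), ((z, 1) : M) = 1 ∨ ((z, 1) : M) = lt := by decide +kernel
  rw [show m = (m.1, 1) * (1, m.2) by ext <;> simp, map_mul]
  refine mul_mem ?_ (hA _)
  rcases hz m.1 with h | h <;> rw [h]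
  · rw [map_one]; exact one_mem _
  · exact F.V_le_commutator h1

theorem Frame.perfect : commutator F.H₁ = ⊤ := by
  have hle : F.H₁ ≤ ⁅F.H₁, F.H₁⁆ := by
    refine sup_le (F.map_le_commutator F.E.j F.range_le_H₁ ?_) ?_
    · exact ⟨1, F.E.v_one⟩
    · rw [MonoidHom.map_range]
      refine F.map_le_commutator _ ?_ ⟨F.L 1, ?_⟩
      · rw [← MonoidHom.map_range]; exact le_sup_right
      · show F.E.v (F.L 1) = F.g * F.E.t * F.g⁻¹
        rw [← F.g_acts 1, F.E.v_one]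
  rw [eq_top_iff]
  intro x _
  have h := hle x.2
  rw [← map_subtype_commutator] at h
  obtain ⟨y, hy, e⟩ := h
  rwa [Subtype.ext (show (y : G) = x from e)] at hy

end CfsgLib.J1Weak
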