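import Cfsg.Agent.Lib.Sporadic.J1.Recog.Local

/-!
# Index data for the weak closure characterisation of the first Janko group
-/

set_option autoImplicit false
set_option maxRecDepth 8000

namespace CfsgLib.J1Weak

open CfsgLib.J1Recog

theorem center_M : ∀ m : M, m * lc = lc * m → m * ld = ld * m → m = 1 ∨ m = lt := by decide +kernel

theorem lt_comm (m : M) : lt * m = m * lt := Prod.ext (mul_comm _ _) (by simp [lt])

theorem invol_classes (m : M) (hm : m * m = 1) :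
    m = 1 ∨ m = lt ∨ (∃ g : M, g * sOf 2 * g⁻¹ = m) ∨ ∃ g : M, g * sOf 3 * g⁻¹ = m := by
  have key : ∀ c ∈ codeList, mulC c c = 36112 → c = 36112 ∨ c = code lt ∨
      (∃ g ∈ codeList, mulC g (code (sOf 2)) = mulC c g) ∨
      ∃ g ∈ codeList, mulC g (code (sOf 3)) = mulC c g := by decide +kernel
  have hsurj : ∀ c ∈ codeList, ∃ g : M, code g = c := by
    intro c hc
    obtain ⟨l, -, -, hl⟩ := exists_genWord c hc
    exact ⟨_, (code_prod l).trans hl⟩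
  have hconj : ∀ (k : Fin 8) (g : ℕ), g ∈ codeList → mulC g (code (sOf k)) = mulC (code m) g →
      ∃ g' : M, g' * sOf k * g'⁻¹ = m := by
    intro k g hg e
    obtain ⟨g', rfl⟩ := hsurj g hg
    rw [← code_mul, ← code_mul] at e
    exact ⟨g', mul_inv_eq_iff_eq_mul.mpr (code_injective e)⟩
  rcases key _ (code_mem m) (by rw [← code_mul, hm, code_one]) with h | h | ⟨g, hg, e⟩ | ⟨g, hg, e⟩
  · exact Or.inl (code_eq_one_iff.mp h)
  · exact Or.inr (Or.inl (code_injective h))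
  · exact Or.inr (Or.inr (Or.inl (hconj 2 g hg e)))
  · exact Or.inr (Or.inr (Or.inr (hconj 3 g hg e)))

theorem Lc_orbit : Lc 2 = 4 ∧ Lc 4 = 6 ∧ Lc 3 = 5 ∧ Lc 5 = 7 ∧ Lc 1 = 1 := by decide +kernel

theorem sOf_sq : ∀ k, sOf k * sOf k = 1 := by decide +kernel

theorem sOf_comm : ∀ a b, sOf a * sOf b = sOf b * sOf a := by decide +kernel

theorem sOf_fst : ∀ k : Fin 8, (sOf k).1 = 1 → k = 0 ∨ k = 2 ∨ k = 4 ∨ k = 6 := by decide +kernel

theorem fst_even : (sOf 2).1 = 1 ∧ (sOf 4).1 = 1 ∧ (sOf 6).1 = 1 := by decide +kernel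

theorem sOf_eq_prod : ∀ k : Fin 8, sOf k = (if k.val % 2 = 1 then sOf 1 else 1) *
    (if k.val / 2 % 2 = 1 then sOf 2 else 1) * (if k.val / 4 % 2 = 1 then sOf 4 else 1) := by
  decide +kernel

theorem three_mul : sOf 2 = sOf 1 * sOf 3 ∧ sOf 4 = sOf 1 * sOf 5 := by decide +kernel

theorem lin_one : ∀ a b c : Fin 8, lin a b c 1 = a ∧ lin a b c 2 = b ∧ lin a b c 4 = c := by
  decide +kernel

theorem lin_eq_id : lin 1 2 4 = id := by decide +kernel

theorem Lc_cube : Lc^[3] = id := by decide +kernel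

theorem Lc_fixed : ∀ k, Lc k = k → k = 0 ∨ k = 1 := by decide +kernel

/-- The maps fixing `1` and preserving `{0, 2, 4, 6}`. -/
theorem stab_cases : ∀ b c : Fin 8, (∀ x, lin 1 b c x = 0 → x = 0) →
    (b = 2 ∨ b = 4 ∨ b = 6) → (c = 2 ∨ c = 4 ∨ c = 6) →
    (∃ i : Fin 3, lin 1 b c = Lc^[i.val]) ∨
      lin 1 b c = lin 1 2 6 ∨ lin 1 b c = lin 1 4 2 ∨ lin 1 b c = lin 1 6 4 := by
  decide +kernel

/-- No transposition normalises a group of order 7. -/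
theorem no_swap : ∀ a b c : Fin 8, (lin a b c)^[7] = id → lin a b c ≠ id → ∀ r : Fin 7,
    lin 1 2 6 ∘ lin a b c ≠ (lin a b c)^[r.val] ∘ lin 1 2 6 ∧
    lin 1 4 2 ∘ lin a b c ≠ (lin a b c)^[r.val] ∘ lin 1 4 2 ∧
    lin 1 6 4 ∘ lin a b c ≠ (lin a b c)^[r.val] ∘ lin 1 6 4 := by
  decide +kernel

/-- The commutator of an element of order 7 with `Lc`. -/
def comL (L : Fin 8 → Fin 8) : Fin 8 → Fin 8 := L ∘ Lc ∘ L^[6] ∘ Lc^[2]

theorem comL_spec : ∀ a b c : Fin 8, (lin a b c)^[7] = id → lin a b c ≠ id → ∀ r : Fin 7,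
    Lc ∘ lin a b c = (lin a b c)^[r.val] ∘ Lc →
    lin a b c 1 ≠ 1 ∧
    (∀ k, comL (lin a b c) k = k → k = 0) ∧
    (∀ e, ∃ k, comL (lin a b c) k = xorF k e) ∧
    comL (lin a b c) ∘ lin a b c = lin a b c ∘ comL (lin a b c) ∧
    Lc ∘ comL (lin a b c) = (comL (lin a b c))^[r.val] ∘ Lc ∧
    ∀ k, k ≠ 0 → ∃ i : Fin 7, (comL (lin a b c))^[i.val] 1 = k := by
  decide +kernel

end CfsgLib.J1Weak
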