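import Cfsg.Agent.Lib.J1Weak.Whole

/-!
# The first Janko group by the weak closure of a 2-central involution
-/

set_option autoImplicit false
set_option maxRecDepth 8000

namespace CfsgLib.J1Weak

open Subgroup CfsgLib.J1Recog

/-- The configuration yields the embedding data. -/
theorem exists_weak {G : Type*} [Group G] [Finite G] (t : G) (ht : orderOf t = 2) (S : Sylow 2 G)
    (htc : ∀ s ∈ (S : Subgroup G), s * t = t * s)
    (e : closure {x : G | ∃ g : G, x = g * t * g⁻¹ ∧ x * t = t * x} ≃* M) :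
    ∃ E : Weak G, E.t = t := by
  set W := closure {x : G | ∃ g : G, x = g * t * g⁻¹ ∧ x * t = t * x} with hW
  have htW : t ∈ W := subset_closure ⟨1, by group, rfl⟩
  have hWt : ∀ x ∈ W, x * t = t * x := by
    intro x hx
    have hle : W ≤ centralizer ({t} : Set G) := by
      rw [hW, closure_le]
      rintro y ⟨-, -, hy⟩
      exact mem_centralizer_singleton_iff.mpr hy
    exact mem_centralizer_singleton_iff.mp (hle hx)
  have hc : ∀ m : M, e ⟨t, htW⟩ * m = m * e ⟨t, htW⟩ := by
    intro m
    obtain ⟨x, rfl⟩ := e.surjective m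
    rw [← map_mul, ← map_mul]
    congr 1
    exact Subtype.ext (hWt _ x.2).symm
  have hlt : e ⟨t, htW⟩ = lt := by
    refine (center_M _ (hc lc) (hc ld)).resolve_left fun h => ?_
    rw [MulEquiv.map_eq_one_iff] at h
    rw [show t = 1 from congrArg Subtype.val h, orderOf_one] at ht
    norm_num at ht
  let j : M →* G := W.subtype.comp e.symm.toMonoidHom
  have hjt : j lt = t := by
    show ((e.symm lt : W) : G) = t
    rw [← hlt, e.symm_apply_apply]
  have hj : Function.Injective j := Subtype.val_injective.comp e.symm.injective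
  have hrange : j.range = W := by
    ext x
    constructor
    · rintro ⟨m, rfl⟩
      exact (e.symm m).2
    · intro hx
      exact ⟨e ⟨x, hx⟩, by show ((e.symm (e ⟨x, hx⟩) : W) : G) = x; rw [e.symm_apply_apply]⟩
  haveI : Fact (Nat.Prime 2) := ⟨Nat.prime_two⟩
  set C := centralizer ({t} : Set G) with hC
  have hSC : (S : Subgroup G) ≤ C := fun s hs => mem_centralizer_singleton_iff.mpr (htc s hs)
  let U : Subgroup M :=
    { carrier := Set.range sOf
      mul_mem' := by
        rintro _ _ ⟨a, rfl⟩ ⟨b, rfl⟩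
        exact ⟨xorF a b, (sOf_mul a b).symm⟩
      one_mem' := ⟨0, sOf_zero⟩
      inv_mem' := by
        rintro _ ⟨a, rfl⟩
        exact ⟨a, (sOf_inv a).symm⟩ }
  have hU : Nat.card U = 8 := (Nat.card_range_of_injective sOf_injective).trans (Nat.card_fin 8)
  have hUC : U.map j ≤ C := by
    rintro _ ⟨m, -, rfl⟩
    exact mem_centralizer_singleton_iff.mpr (hWt _ (hrange ▸ ⟨m, rfl⟩))
  obtain ⟨Q, hQ⟩ := (IsPGroup.of_card (p := 2) (n := 3) (G := (U.map j).subgroupOf C) (by
    rw [Nat.card_congr (subgroupOfEquivOfLe hUC).toEquiv, card_map_of_injective hj, hU]; norm_num)).exists_le_sylow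
  obtain ⟨c, hc'⟩ := MulAction.exists_smul_eq C (S.subtype hSC) Q
  refine ⟨⟨j, hj, by rw [hrange, hW, hjt], (c : G) • S, ?_, ?_⟩, hjt⟩
  · intro x hx
    rw [hjt]
    rw [Sylow.coe_subgroup_smul, mem_pointwise_smul_iff_inv_smul_mem] at hx
    have h := htc _ hx
    simp only [← map_inv, MulAut.smul_def, MulAut.conj_apply, inv_inv] at h
    have hct : (c : G) * t = t * c := mem_centralizer_singleton_iff.mp c.2
    calc x * t = (c : G) * ((c : G)⁻¹ * x * c * t) * (c : G)⁻¹ := by
          rw [mul_assoc _ (c : G) t, hct]; group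
      _ = (c : G) * (t * ((c : G)⁻¹ * x * c)) * (c : G)⁻¹ := by rw [h]
      _ = (c : G) * t * (c : G)⁻¹ * x := by group
      _ = t * x := by rw [hct, mul_inv_cancel_right]
  · intro k
    have hm : j (sOf k) ∈ U.map j := mem_map_of_mem j ⟨k, rfl⟩
    have h1 : (⟨_, hUC hm⟩ : C) ∈ (Q : Subgroup C) := hQ (mem_subgroupOf.mpr hm)
    rw [← hc', Sylow.coe_subgroup_smul, mem_pointwise_smul_iff_inv_smul_mem, Sylow.coe_subtype,
      mem_subgroupOf] at h1
    rw [Sylow.coe_subgroup_smul, mem_pointwise_smul_iff_inv_smul_mem]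
    simpa [← map_inv, MulAut.smul_def, MulAut.conj_apply, mul_assoc] using h1

theorem normalClosure_isoJ1 {G : Type*} [Group G] [Finite G] (t : G) (ht : orderOf t = 2) (S : Sylow 2 G)
    (htc : ∀ s ∈ (S : Subgroup G), s * t = t * s)
    (e : closure {x : G | ∃ g : G, x = g * t * g⁻¹ ∧ x * t = t * x} ≃* M) :
    Cfsg.Spor.IsoJ1 (normalClosure ({t} : Set G)) := by
  obtain ⟨E, rfl⟩ := exists_weak t ht S htc e
  obtain ⟨F, rfl⟩ := E.exists_frame
  rw [F.normalClosure_eq]
  exact F.iso

end CfsgLib.J1Weak
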