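import Cfsg.Agent.Lib.J1Weak.Index

/-!
# A 2-central involution with weak closure `2 × A₅` in its centraliser
-/

set_option autoImplicit false
set_option maxRecDepth 8000

namespace CfsgLib.J1Weak

open Subgroup CfsgLib.J1Recog

/-- A group with an embedding of `2 × A₅` as the weak closure of a 2-central involution. -/
structure Weak (G : Type*) [Group G] where
  j : M →* G
  inj : Function.Injective j
  range_eq : j.range = closure {x : G | ∃ g : G, x = g * j lt * g⁻¹ ∧ x * j lt = j lt * x}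
  S : Sylow 2 G
  comm : ∀ x ∈ (S : Subgroup G), x * j lt = j lt * x
  mem_S : ∀ k, j (sOf k) ∈ (S : Subgroup G)

variable {G : Type*} [Group G] (E : Weak G)

/-- The involution. -/
def Weak.t : G := E.j lt

/-- The image of the standard Sylow subgroup. -/
def Weak.v (k : Fin 8) : G := E.j (sOf k)

theorem Weak.v_one : E.v 1 = E.t := by rw [Weak.v, sOf_one]; rfl

theorem Weak.v_zero : E.v 0 = 1 := by rw [Weak.v, sOf_zero, map_one]

theorem Weak.v_inj : Function.Injective E.v := E.inj.comp sOf_injective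

theorem Weak.v_mul (a b : Fin 8) : E.v a * E.v b = E.v (xorF a b) := by
  rw [Weak.v, Weak.v, ← map_mul, sOf_mul]; rfl

theorem Weak.v_sq (k : Fin 8) : E.v k * E.v k = 1 := by
  rw [Weak.v, ← map_mul, sOf_sq, map_one]

theorem Weak.v_inv (k : Fin 8) : (E.v k)⁻¹ = E.v k := inv_eq_of_mul_eq_one_right (E.v_sq k)

theorem Weak.v_comm (a b : Fin 8) : E.v a * E.v b = E.v b * E.v a := by
  rw [Weak.v, Weak.v, ← map_mul, ← map_mul, sOf_comm]

/-- The image of the standard Sylow subgroup, as a subgroup. -/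
def Weak.V : Subgroup G where
  carrier := Set.range E.v
  mul_mem' := by
    rintro _ _ ⟨a, rfl⟩ ⟨b, rfl⟩
    exact ⟨xorF a b, (E.v_mul a b).symm⟩
  one_mem' := ⟨0, E.v_zero⟩
  inv_mem' := by
    rintro _ ⟨a, rfl⟩
    exact ⟨a, (E.v_inv a).symm⟩

theorem Weak.v_mem (k : Fin 8) : E.v k ∈ E.V := ⟨k, rfl⟩

theorem Weak.card_V : Nat.card E.V = 8 :=
  (Nat.card_range_of_injective E.v_inj).trans (Nat.card_fin 8)

theorem Weak.V_le_S : E.V ≤ (E.S : Subgroup G) := by
  rintro _ ⟨k, rfl⟩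
  exact E.mem_S k

theorem Weak.V_le_range : E.V ≤ E.j.range := by
  rintro _ ⟨k, rfl⟩
  exact ⟨_, rfl⟩

/-- The conjugates of the involution commuting with it. -/
def Weak.X : Set G := {x : G | ∃ g : G, x = g * E.t * g⁻¹ ∧ x * E.t = E.t * x}

theorem Weak.range_closure : E.j.range = closure E.X := E.range_eq

theorem Weak.mem_range {g : G} (h : g * E.t * g⁻¹ * E.t = E.t * (g * E.t * g⁻¹)) :
    g * E.t * g⁻¹ ∈ E.j.range := by
  rw [E.range_closure]
  exact subset_closure ⟨g, rfl, h⟩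

theorem Weak.t_comm (m : M) : E.t * E.j m = E.j m * E.t := by
  rw [Weak.t, ← map_mul, ← map_mul, lt_comm]

theorem Weak.t_sq : E.t * E.t = 1 := by rw [← E.v_one, E.v_sq]

theorem Weak.t_inv : E.t⁻¹ = E.t := inv_eq_of_mul_eq_one_right E.t_sq

theorem Weak.t_ne : E.t ≠ 1 := by
  rw [← E.v_one, ← E.v_zero]
  exact fun h => absurd (E.v_inj h) (by decide)

theorem Weak.conj_v (m : M) (k : Fin 8) : E.j m * E.v k * (E.j m)⁻¹ = E.j (m * sOf k * m⁻¹) := by
  rw [Weak.v, map_mul, map_mul, map_inv]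

theorem Weak.lc_v (k : Fin 8) : E.j lc * E.v k * (E.j lc)⁻¹ = E.v (Lc k) := by
  rw [E.conj_v, lc_conj_sOf]; rfl

theorem Weak.card_range : Nat.card E.j.range = 120 := by
  rw [← Nat.card_congr (MonoidHom.ofInjective E.inj).toEquiv, Nat.card_eq_fintype_card, card_M]

theorem Weak.t_eq_conj_or {x : G} (hx : x ∈ E.j.range) (h2 : x * x = 1) (h1 : x ≠ 1) :
    x = E.t ∨ (∃ m : M, E.j m * E.v 2 * (E.j m)⁻¹ = x) ∨ ∃ m : M, E.j m * E.v 3 * (E.j m)⁻¹ = x := by
  obtain ⟨m, rfl⟩ := hx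
  rcases invol_classes m (E.inj (by rw [map_mul, h2, map_one])) with rfl | rfl | ⟨g, rfl⟩ | ⟨g, rfl⟩
  · exact absurd (map_one E.j) h1
  · exact Or.inl rfl
  · exact Or.inr (Or.inl ⟨g, E.conj_v g 2⟩)
  · exact Or.inr (Or.inr ⟨g, E.conj_v g 3⟩)

/-- `n` acts on `V` as the index map `L`. -/
def Weak.Acts (n : G) (L : Fin 8 → Fin 8) : Prop := ∀ k, n * E.v k * n⁻¹ = E.v (L k)

variable {E}

theorem Weak.Acts.mul {n m : G} {L L' : Fin 8 → Fin 8} (h : E.Acts n L) (h' : E.Acts m L') :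
    E.Acts (n * m) (L ∘ L') := fun k => by
  calc n * m * E.v k * (n * m)⁻¹ = n * (m * E.v k * m⁻¹) * n⁻¹ := by group
    _ = _ := by rw [h', h]; rfl

theorem Weak.acts_one : E.Acts 1 id := fun k => by group; rfl

theorem Weak.Acts.pow {n : G} {L : Fin 8 → Fin 8} (h : E.Acts n L) : ∀ i, E.Acts (n ^ i) (L^[i])
  | 0 => by rw [pow_zero]; exact Weak.acts_one
  | i + 1 => by
    rw [pow_succ', Function.iterate_succ']
    exact h.mul (Weak.Acts.pow h i)

theorem Weak.Acts.unique {n : G} {L L' : Fin 8 → Fin 8} (h : E.Acts n L) (h' : E.Acts n L') : L = L' :=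
  funext fun k => E.v_inj ((h k).symm.trans (h' k))

theorem Weak.Acts.injective {n : G} {L : Fin 8 → Fin 8} (h : E.Acts n L) : Function.Injective L :=
  fun a b e => E.v_inj (mul_left_cancel (mul_right_cancel
    (show n * E.v a * n⁻¹ = n * E.v b * n⁻¹ by rw [h a, h b, e])))

theorem Weak.Acts.eq_zero {n : G} {L : Fin 8 → Fin 8} (h : E.Acts n L) {k : Fin 8} (hk : L k = 0) :
    k = 0 := by
  refine h.injective (hk.trans (E.v_inj ?_).symm)
  rw [← h 0, E.v_zero]
  group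

theorem Weak.Acts.inv {n : G} {L L' : Fin 8 → Fin 8} (h : E.Acts n L) (hL : L ∘ L' = id) :
    E.Acts n⁻¹ L' := fun k => by
  have e := h (L' k)
  rw [show L (L' k) = k from congrFun hL k] at e
  rw [← e]
  group

variable (E)

theorem Weak.acts_lc : E.Acts (E.j lc) Lc := E.lc_v

theorem Weak.acts_of_comm {n : G} (h : ∀ k, n * E.v k = E.v k * n) : E.Acts n id := fun k => by
  rw [h k, mul_inv_cancel_right]; rfl

theorem Weak.acts_v (a : Fin 8) : E.Acts (E.v a) id := E.acts_of_comm fun k => E.v_comm a k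

theorem Weak.exists_lin {n : G} (hn : n ∈ normalizer (E.V : Set G)) :
    ∃ a b c, E.Acts n (lin a b c) := by
  obtain ⟨a, ha⟩ := (mem_normalizer_iff.mp hn _).mp (E.v_mem 1)
  obtain ⟨b, hb⟩ := (mem_normalizer_iff.mp hn _).mp (E.v_mem 2)
  obtain ⟨c, hc⟩ := (mem_normalizer_iff.mp hn _).mp (E.v_mem 4)
  simp only [Weak.v] at ha hb hc
  have hlin : ∀ a b c k : Fin 8, sOf (lin a b c k) = (if k.val % 2 = 1 then sOf a else 1) *
      (if k.val / 2 % 2 = 1 then sOf b else 1) * (if k.val / 4 % 2 = 1 then sOf c else 1) := by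
    intro a b c k
    simp only [lin, ← sOf_mul, apply_ite sOf, sOf_zero]
  refine ⟨a, b, c, fun k => ?_⟩
  simp only [Weak.v]
  rw [sOf_eq_prod k, hlin, map_mul, map_mul, map_mul, map_mul, apply_ite E.j, apply_ite E.j,
    apply_ite E.j, apply_ite E.j, apply_ite E.j, apply_ite E.j, map_one]
  rw [show ∀ x y z : G, n * (x * y * z) * n⁻¹ = (n * x * n⁻¹) * (n * y * n⁻¹) * (n * z * n⁻¹) from
    fun x y z => by group]
  congr 1
  · congr 1
    · split_ifs
      · exact ha.symm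
      · group
    · split_ifs
      · exact hb.symm
      · group
  · split_ifs
    · exact hc.symm
    · group

/-- Conjugation fixes the weak closure when it fixes the involution. -/
theorem Weak.conj_range {c : G} (hc : c * E.t = E.t * c) {x : G} (hx : x ∈ E.j.range) :
    c * x * c⁻¹ ∈ E.j.range := by
  rw [E.range_closure] at hx ⊢
  induction hx using closure_induction with
  | mem y hy =>
    obtain ⟨g, rfl, hg⟩ := hy
    refine subset_closure ⟨c * g, by group, ?_⟩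
    calc c * (g * E.t * g⁻¹) * c⁻¹ * E.t = c * (g * E.t * g⁻¹) * (c⁻¹ * E.t * c) * c⁻¹ := by group
      _ = c * (g * E.t * g⁻¹ * E.t) * c⁻¹ := by
        rw [show c⁻¹ * E.t * c = E.t by rw [mul_assoc, ← hc, inv_mul_cancel_left]]; group
      _ = c * (E.t * (g * E.t * g⁻¹)) * c⁻¹ := by rw [hg]
      _ = c * E.t * c⁻¹ * (c * (g * E.t * g⁻¹) * c⁻¹) := by group
      _ = E.t * (c * (g * E.t * g⁻¹) * c⁻¹) := by rw [hc, mul_inv_cancel_right]
  | one => rw [mul_one, mul_inv_cancel]; exact one_mem _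
  | mul y z _ _ hy hz =>
    rw [show c * (y * z) * c⁻¹ = c * y * c⁻¹ * (c * z * c⁻¹) by group]
    exact mul_mem hy hz
  | inv y _ hy =>
    rw [show c * y⁻¹ * c⁻¹ = (c * y * c⁻¹)⁻¹ by group]
    exact inv_mem hy

variable [Finite G]

/-- The Sylow subgroup meets the weak closure in `V`. -/
theorem Weak.mem_V_of_mem {x : G} (hx : x ∈ E.j.range) (hS : x ∈ (E.S : Subgroup G)) : x ∈ E.V := by
  have hle : E.V ≤ E.j.range ⊓ (E.S : Subgroup G) := le_inf E.V_le_range E.V_le_S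
  haveI : Fact (Nat.Prime 2) := ⟨Nat.prime_two⟩
  obtain ⟨n, hn⟩ := IsPGroup.iff_card.mp (E.S.2.to_le (inf_le_right : E.j.range ⊓ (E.S : Subgroup G) ≤ _))
  have hd := card_dvd_of_le (inf_le_left : E.j.range ⊓ (E.S : Subgroup G) ≤ E.j.range)
  rw [E.card_range, hn] at hd
  have h3 : n ≤ 3 := by
    by_contra h
    have := (pow_dvd_pow 2 (show 4 ≤ n by omega)).trans hd
    norm_num at this
  rw [eq_of_le_of_card_ge hle (by
    rw [E.card_V, hn]
    calc 2 ^ n ≤ 2 ^ 3 := Nat.pow_le_pow_right (by norm_num) h3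
      _ = 8 := by norm_num)]
  exact ⟨hx, hS⟩

theorem Weak.S_normalises {s : G} (hs : s ∈ (E.S : Subgroup G)) : s ∈ normalizer (E.V : Set G) := by
  have key : ∀ {s : G}, s ∈ (E.S : Subgroup G) → ∀ {x : G}, x ∈ E.V → s * x * s⁻¹ ∈ E.V := fun {s} hs {x} hx =>
    E.mem_V_of_mem (E.conj_range (E.comm s hs) (E.V_le_range hx))
      (mul_mem (mul_mem hs (E.V_le_S hx)) (inv_mem hs))
  rw [mem_normalizer_iff]
  intro x
  refine ⟨key hs, fun h => ?_⟩
  have := key (inv_mem hs) h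
  rwa [show s⁻¹ * (s * x * s⁻¹) * s⁻¹⁻¹ = x by group] at this

theorem Weak.exists_generators :
    (∀ k : Fin 8, (k = 1 ∨ k = 2 ∨ k = 4) → ∃ g : G, E.v k = g * E.t * g⁻¹) ∨
    (∀ k : Fin 8, (k = 1 ∨ k = 3 ∨ k = 5) → ∃ g : G, E.v k = g * E.t * g⁻¹) := by
  have h1 : ∃ g : G, E.v 1 = g * E.t * g⁻¹ := ⟨1, by rw [E.v_one]; group⟩
  obtain ⟨x, ⟨g, rfl, hg⟩, hne⟩ : ∃ x ∈ E.X, x ≠ E.t := by
    by_contra hno
    push Not at hno
    have hle : E.j.range ≤ zpowers E.t := by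
      rw [E.range_closure, closure_le]
      intro x hx
      rw [hno x hx]
      exact mem_zpowers _
    have hc := card_dvd_of_le hle
    have h2 : orderOf E.t = 2 := orderOf_eq_prime (by rw [pow_two, E.t_sq]) E.t_ne
    rw [E.card_range, Nat.card_zpowers, h2] at hc
    norm_num at hc
  rcases E.t_eq_conj_or (E.mem_range hg)
    (by rw [show g * E.t * g⁻¹ * (g * E.t * g⁻¹) = g * (E.t * E.t) * g⁻¹ by group, E.t_sq]; group)
    (fun e => E.t_ne (mul_eq_left.mp (mul_inv_eq_one.mp e))) with h | ⟨m, hm⟩ | ⟨m, hm⟩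
  · exact absurd h hne
  · left
    have h2 : E.v 2 = (E.j m)⁻¹ * g * E.t * ((E.j m)⁻¹ * g)⁻¹ := by
      calc E.v 2 = (E.j m)⁻¹ * (E.j m * E.v 2 * (E.j m)⁻¹) * E.j m := by group
        _ = _ := by rw [hm]; group
    rintro k (rfl | rfl | rfl)
    · exact h1
    · exact ⟨_, h2⟩
    · refine ⟨E.j lc * ((E.j m)⁻¹ * g), ?_⟩
      rw [← Lc_orbit.1, ← E.lc_v, h2]
      group
  · right
    have h2 : E.v 3 = (E.j m)⁻¹ * g * E.t * ((E.j m)⁻¹ * g)⁻¹ := by
      calc E.v 3 = (E.j m)⁻¹ * (E.j m * E.v 3 * (E.j m)⁻¹) * E.j m := by group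
        _ = _ := by rw [hm]; group
    rintro k (rfl | rfl | rfl)
    · exact h1
    · exact ⟨_, h2⟩
    · refine ⟨E.j lc * ((E.j m)⁻¹ * g), ?_⟩
      rw [← Lc_orbit.2.2.1, ← E.lc_v, h2]
      group

theorem Weak.mem_V_of_conj {x g : G} (hx : x = g * E.t * g⁻¹) (hS : x ∈ (E.S : Subgroup G)) : x ∈ E.V := by
  subst hx
  exact E.mem_V_of_mem (E.mem_range (E.comm _ hS)) hS

/-- Conjugates of the involution in `V` are conjugate in the normaliser. -/
theorem Weak.exists_normalizer {k : Fin 8} (hk : ∃ g : G, E.v k = g * E.t * g⁻¹) :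
    ∃ n ∈ normalizer (E.V : Set G), n * E.t * n⁻¹ = E.v k := by
  haveI : Fact (Nat.Prime 2) := ⟨Nat.prime_two⟩
  obtain ⟨g, hg⟩ := hk
  set C : Subgroup G := centralizer ({E.v k} : Set G) with hC
  have hSC : (g • E.S : Sylow 2 G) ≤ C := by
    intro y hy
    rw [Sylow.coe_subgroup_smul, mem_pointwise_smul_iff_inv_smul_mem] at hy
    refine mem_centralizer_singleton_iff.mpr ?_
    have h := E.comm _ hy
    simp only [← map_inv, MulAut.smul_def, MulAut.conj_apply, inv_inv] at h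
    rw [hg]
    calc y * (g * E.t * g⁻¹) = g * (g⁻¹ * y * g * E.t) * g⁻¹ := by group
      _ = g * (E.t * (g⁻¹ * y * g)) * g⁻¹ := by rw [show g⁻¹ * y * g * E.t = E.t * (g⁻¹ * y * g) from h]
      _ = g * E.t * g⁻¹ * y := by group
  have hVC : E.V ≤ C := by
    rintro _ ⟨a, rfl⟩
    exact mem_centralizer_singleton_iff.mpr (E.v_comm a k)
  have hp : IsPGroup 2 (E.V.subgroupOf C) :=
    IsPGroup.of_card (n := 3) (by rw [Nat.card_congr (subgroupOfEquivOfLe hVC).toEquiv, E.card_V]; norm_num)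
  obtain ⟨Q, hQ⟩ := hp.exists_le_sylow
  obtain ⟨c, hc⟩ := MulAction.exists_smul_eq C ((g • E.S).subtype hSC) Q
  have hmem : ∀ y ∈ E.V, (↑c * g : G)⁻¹ * y * (↑c * g) ∈ (E.S : Subgroup G) := by
    intro y hy
    have h1 : (⟨y, hVC hy⟩ : C) ∈ (Q : Subgroup C) := hQ (mem_subgroupOf.mpr hy)
    rw [← hc, Sylow.coe_subgroup_smul, mem_pointwise_smul_iff_inv_smul_mem, Sylow.coe_subtype,
      mem_subgroupOf] at h1
    rw [Sylow.coe_subgroup_smul, mem_pointwise_smul_iff_inv_smul_mem] at h1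
    simpa [← map_inv, MulAut.smul_def, MulAut.conj_apply, mul_assoc] using h1
  have hct : (↑c * g : G) * E.t * (↑c * g)⁻¹ = E.v k := by
    calc (↑c * g : G) * E.t * (↑c * g)⁻¹ = (c : G) * (g * E.t * g⁻¹) * (c : G)⁻¹ := by group
      _ = E.v k := by rw [← hg, mem_centralizer_singleton_iff.mp c.2, mul_inv_cancel_right]
  refine ⟨_, ?_, hct⟩
  set h : G := ↑c * g with hh
  have key : ∀ l : Fin 8, (∃ g' : G, E.v l = g' * E.t * g'⁻¹) → h⁻¹ * E.v l * h ∈ E.V := by
    rintro l ⟨g', hg'⟩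
    refine E.mem_V_of_conj (g := h⁻¹ * g') ?_ (hmem _ (E.v_mem l))
    rw [hg']; group
  have hall : ∀ y ∈ E.V, h⁻¹ * y * h ∈ E.V := by
    rintro _ ⟨l, rfl⟩
    obtain ⟨i1, i2, i4⟩ : (h⁻¹ * E.v 1 * h ∈ E.V) ∧ (h⁻¹ * E.v 2 * h ∈ E.V) ∧ (h⁻¹ * E.v 4 * h ∈ E.V) := by
      have i1 : h⁻¹ * E.v 1 * h ∈ E.V := key 1 ⟨1, by rw [E.v_one]; group⟩
      rcases E.exists_generators with hgen | hgen
      · exact ⟨i1, key 2 (hgen 2 (by simp)), key 4 (hgen 4 (by simp))⟩
      · have i3 := key 3 (hgen 3 (by simp))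
        have i5 := key 5 (hgen 5 (by simp))
        refine ⟨i1, ?_, ?_⟩
        · rw [show E.v 2 = E.v 1 * E.v 3 by simp only [Weak.v, ← map_mul, ← three_mul.1],
            show h⁻¹ * (E.v 1 * E.v 3) * h = (h⁻¹ * E.v 1 * h) * (h⁻¹ * E.v 3 * h) by group]
          exact mul_mem i1 i3
        · rw [show E.v 4 = E.v 1 * E.v 5 by simp only [Weak.v, ← map_mul, ← three_mul.2],
            show h⁻¹ * (E.v 1 * E.v 5) * h = (h⁻¹ * E.v 1 * h) * (h⁻¹ * E.v 5 * h) by group]
          exact mul_mem i1 i5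
    have hone : h⁻¹ * (1 : G) * h ∈ E.V := by
      rw [mul_one, inv_mul_cancel]; exact one_mem _
    rw [show E.v l = (if l.val % 2 = 1 then E.v 1 else 1) * (if l.val / 2 % 2 = 1 then E.v 2 else 1) *
        (if l.val / 4 % 2 = 1 then E.v 4 else 1) by
      simp only [Weak.v]
      rw [sOf_eq_prod l, map_mul, map_mul, apply_ite E.j, apply_ite E.j, apply_ite E.j, map_one]]
    rw [show ∀ x y z : G, h⁻¹ * (x * y * z) * h = (h⁻¹ * x * h) * (h⁻¹ * y * h) * (h⁻¹ * z * h) from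
      fun x y z => by group]
    refine mul_mem (mul_mem ?_ ?_) ?_ <;> split_ifs <;> assumption
  have hmap : E.V.map (MulAut.conj h⁻¹).toMonoidHom = E.V := by
    refine eq_of_le_of_card_ge ?_ (by rw [card_map_of_injective (MulAut.conj h⁻¹).injective])
    rintro _ ⟨y, hy, rfl⟩
    simpa using hall y hy
  have : h⁻¹ ∈ normalizer (E.V : Set G) := by
    rw [mem_normalizer_iff]
    intro y
    refine ⟨fun hy => by simpa using hall y hy, fun hy => ?_⟩
    rw [← hmap] at hy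
    obtain ⟨z, hz, e⟩ := hy
    have : z = y := (MulAut.conj h⁻¹).injective e
    exact this ▸ hz
  simpa using inv_mem this

end CfsgLib.J1Weak
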