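import Cfsg.Agent.Lib.J1Weak.Cover
import Cfsg.Agent.Lib.Invol.GlaubermanZStar
import Cfsg.Agent.Lib.Solvable.CoprimeGeneration

/-!
# The group is the odd part of the centraliser times the first Janko group
-/

set_option autoImplicit false
set_option maxRecDepth 8000

namespace CfsgLib.J1Weak

open Subgroup CfsgLib.J1Recog

variable {G : Type*} [Group G] [Finite G] (F : Frame G)

/-- The product of the odd part and the perfect subgroup. -/
def Frame.H : Subgroup G where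
  carrier := {x | ∃ d ∈ F.R, ∃ h ∈ F.H₁, x = d * h}
  mul_mem' := by
    rintro _ _ ⟨d, hd, h, hh, rfl⟩ ⟨d', hd', h', hh', rfl⟩
    refine ⟨d * d', mul_mem hd hd', h * h', mul_mem hh hh', ?_⟩
    rw [mul_assoc d h, ← mul_assoc h d', ← F.R_comm_H₁ hd' hh, mul_assoc, mul_assoc]
  one_mem' := ⟨1, one_mem _, 1, one_mem _, (mul_one 1).symm⟩
  inv_mem' := by
    rintro _ ⟨d, hd, h, hh, rfl⟩
    exact ⟨d⁻¹, inv_mem hd, h⁻¹, inv_mem hh, by rw [F.R_comm_H₁ hd hh, mul_inv_rev]⟩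

theorem Frame.mem_H {x : G} : x ∈ F.H ↔ ∃ d ∈ F.R, ∃ h ∈ F.H₁, x = d * h := Iff.rfl

theorem Frame.H₁_le_H : F.H₁ ≤ F.H := fun x hx => ⟨1, one_mem _, x, hx, (one_mul x).symm⟩

theorem Frame.R_le_H : F.R ≤ F.H := fun x hx => ⟨x, hx, 1, one_mem _, (mul_one x).symm⟩

theorem Frame.uniq {d d' h h' : G} (hd : d ∈ F.R) (hd' : d' ∈ F.R) (hh : h ∈ F.H₁) (hh' : h' ∈ F.H₁)
    (e : d * h = d' * h') : d = d' ∧ h = h' := by
  have h1 : d'⁻¹ * d = h' * h⁻¹ := by
    rw [eq_mul_inv_iff_mul_eq, mul_assoc, e, inv_mul_cancel_left]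
  have h2 := F.eq_one_of_H₁ (mul_mem (inv_mem hd') hd) (by rw [h1]; exact mul_mem hh' (inv_mem hh))
  have h3 : d = d' := (inv_mul_eq_one.mp h2).symm
  subst h3
  exact ⟨rfl, mul_left_cancel e⟩

theorem Frame.mem_H_of_comm_t {x : G} (hx : x * F.E.t = F.E.t * x) : x ∈ F.H := by
  obtain ⟨d, hd, w, hw, rfl⟩ := F.exists_decomp hx
  exact ⟨d, hd, w, F.range_le_H₁ hw, rfl⟩

theorem Frame.mem_H_of_comm_invol {v x : G} (hv : v ∈ F.H₁) (h2 : v * v = 1) (h1 : v ≠ 1)
    (hx : x * v = v * x) : x ∈ F.H := by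
  obtain ⟨k, hk, rfl⟩ := F.conj_t hv h2 h1
  have h : k⁻¹ * x * k ∈ F.H := F.mem_H_of_comm_t (by
    calc k⁻¹ * x * k * F.E.t = k⁻¹ * (x * (k * F.E.t * k⁻¹)) * k := by group
      _ = k⁻¹ * (k * F.E.t * k⁻¹ * x) * k := by rw [hx]
      _ = F.E.t * (k⁻¹ * x * k) := by group)
  have := mul_mem (mul_mem (F.H₁_le_H hk) h) (inv_mem (F.H₁_le_H hk))
  rwa [show k * (k⁻¹ * x * k) * k⁻¹ = x by group] at this

theorem Frame.t_ord : orderOf F.E.t = 2 := orderOf_eq_prime (by rw [pow_two, F.E.t_sq]) F.E.t_ne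

/-- A conjugate of the involution in `H` lies in the perfect subgroup. -/
theorem Frame.mem_H₁_of_conj {g : G} (hg : g * F.E.t * g⁻¹ ∈ F.H) : g * F.E.t * g⁻¹ ∈ F.H₁ := by
  obtain ⟨d, hd, h, hh, e⟩ := F.mem_H.mp hg
  set x := g * F.E.t * g⁻¹ with hx
  have hx2 : x * x = 1 := by
    rw [hx, show g * F.E.t * g⁻¹ * (g * F.E.t * g⁻¹) = g * (F.E.t * F.E.t) * g⁻¹ by group, F.E.t_sq]
    group
  obtain ⟨hd2, hh2⟩ := F.uniq (mul_mem hd hd) (one_mem _) (mul_mem hh hh) (one_mem _) (by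
    rw [one_mul, ← hx2, e]
    calc d * d * (h * h) = d * (d * h) * h := by group
      _ = d * (h * d) * h := by rw [F.R_comm_H₁ hd hh]
      _ = d * h * (d * h) := by group)
  suffices d = 1 by rw [e, this, one_mul]; exact hh
  by_cases h1 : h = 1
  · rw [h1, mul_one] at e
    refine F.eq_one_of_range hd ?_
    rw [← e]
    refine F.E.mem_range ?_
    rw [← hx, e]
    exact F.inD_comm_t (F.mem_R.mp hd).1
  · obtain ⟨k, hk, hke⟩ := F.conj_t hh hh2 h1
    have e2 : k⁻¹ * g * F.E.t * (k⁻¹ * g)⁻¹ = d * F.E.t := by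
      calc k⁻¹ * g * F.E.t * (k⁻¹ * g)⁻¹ = k⁻¹ * x * k := by rw [hx]; group
        _ = k⁻¹ * d * h * k := by rw [e]; group
        _ = d * (k⁻¹ * h * k) := by rw [← F.R_comm_H₁ hd (inv_mem hk)]; group
        _ = d * F.E.t := by rw [← hke]; group
    have h2 := F.E.mem_range (g := k⁻¹ * g) (by
      rw [e2, mul_assoc, F.E.t_sq, mul_one, ← mul_assoc, ← F.inD_comm_t (F.mem_R.mp hd).1, mul_assoc,
        F.E.t_sq, mul_one])
    rw [e2] at h2
    refine F.eq_one_of_range hd ?_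
    have := mul_mem h2 F.t_mem_range
    rwa [mul_assoc, F.E.t_sq, mul_one] at this

/-- An element moving the involution into `H` lies in `H`. -/
theorem Frame.mem_of_conj {g : G} (hg : g * F.E.t * g⁻¹ ∈ F.H) : g ∈ F.H := by
  have hne : g * F.E.t * g⁻¹ ≠ 1 := fun e => F.E.t_ne (by
    rw [mul_inv_eq_one] at e
    exact mul_eq_left.mp e)
  obtain ⟨k, hk, hke⟩ := F.conj_t (F.mem_H₁_of_conj hg)
    (by rw [show g * F.E.t * g⁻¹ * (g * F.E.t * g⁻¹) = g * (F.E.t * F.E.t) * g⁻¹ by group, F.E.t_sq]; group) hne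
  have h : k⁻¹ * g ∈ F.H := F.mem_H_of_comm_t (by
    calc k⁻¹ * g * F.E.t = k⁻¹ * (g * F.E.t * g⁻¹) * g := by group
      _ = F.E.t * (k⁻¹ * g) := by rw [← hke]; group)
  have := mul_mem (F.H₁_le_H hk) h
  rwa [mul_inv_cancel_left] at this

/-- The centraliser of an element of the coset `R t` lies in `H`. -/
theorem Frame.mem_H_of_comm_mixed {d x : G} (hd : d ∈ F.R) (hx : x * (d * F.E.t) = d * F.E.t * x) :
    x ∈ F.H := by
  classical
  haveI : Fact (Nat.Prime 2) := ⟨Nat.prime_two⟩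
  have hdt : d * F.E.t = F.E.t * d := F.inD_comm_t (F.mem_R.mp hd).1
  set Q := centralizer ({d * F.E.t} : Set G) with hQdef
  have htQ : F.E.t ∈ Q := mem_centralizer_singleton_iff.mpr (by rw [hdt, mul_assoc, ← hdt])
  have hmem : ∀ g ∈ Q, g * F.E.t * g⁻¹ * F.E.t = F.E.t * (g * F.E.t * g⁻¹) → g * F.E.t * g⁻¹ = F.E.t := by
    intro g hg hc
    have hgH : g ∈ F.H := F.mem_of_conj (F.H₁_le_H (F.range_le_H₁ (F.E.mem_range hc)))
    obtain ⟨d₁, hd₁, h₁, hh₁, rfl⟩ := F.mem_H.mp hgH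
    have hg' := mul_inv_eq_iff_eq_mul.mpr (mem_centralizer_singleton_iff.mp hg)
    have htH : F.E.t ∈ F.H₁ := F.range_le_H₁ F.t_mem_range
    have e : d₁ * d * d₁⁻¹ * (h₁ * F.E.t * h₁⁻¹) = d * F.E.t := by
      calc d₁ * d * d₁⁻¹ * (h₁ * F.E.t * h₁⁻¹) = d₁ * d * (d₁⁻¹ * h₁) * F.E.t * h₁⁻¹ := by group
        _ = d₁ * (d * h₁) * d₁⁻¹ * F.E.t * h₁⁻¹ := by rw [F.R_comm_H₁ (inv_mem hd₁) hh₁]; group
        _ = d₁ * h₁ * d * (d₁⁻¹ * F.E.t * h₁⁻¹) := by rw [F.R_comm_H₁ hd hh₁]; group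
        _ = d₁ * h₁ * d * (F.E.t * (h₁⁻¹ * d₁⁻¹)) := by
          rw [F.R_comm_H₁ (inv_mem hd₁) htH, mul_assoc F.E.t, F.R_comm_H₁ (inv_mem hd₁) (inv_mem hh₁)]
        _ = d₁ * h₁ * (d * F.E.t) * (d₁ * h₁)⁻¹ := by group
        _ = d * F.E.t := hg'
    obtain ⟨-, e2⟩ := F.uniq (mul_mem (mul_mem hd₁ hd) (inv_mem hd₁)) hd
      (mul_mem (mul_mem hh₁ htH) (inv_mem hh₁)) htH e
    calc d₁ * h₁ * F.E.t * (d₁ * h₁)⁻¹ = d₁ * (h₁ * F.E.t * h₁⁻¹) * d₁⁻¹ := by group
      _ = F.E.t := by rw [e2, F.R_comm_H₁ hd₁ htH, mul_inv_cancel_right]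
  have hiso : Cfsg.IsIsolatedInvolution (⟨F.E.t, htQ⟩ : Q) := by
    refine ⟨by rw [Subgroup.orderOf_mk]; exact F.t_ord, fun g hg => ?_⟩
    exact Subtype.ext (hmem g g.2 (congrArg Subtype.val hg).symm)
  set N := (Cfsg.pPrimeCore 2 Q).map Q.subtype with hN
  have hVQ : F.E.V ≤ Q := by
    rintro _ ⟨k, rfl⟩
    exact mem_centralizer_singleton_iff.mpr
      ((Commute.mul_right ((F.mem_R.mp hd).1 k).symm (F.inD_comm_t (F.inD_v k))).eq)
  have hVN : F.E.V ≤ normalizer (N : Set G) := by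
    intro v hv
    refine mem_normalizer_of_conj ?_
    rintro _ ⟨y, hy, rfl⟩
    exact ⟨_, (CfsgLib.Solvable.pPrimeCore_normal 2 Q).conj_mem y hy ⟨v, hVQ hv⟩, rfl⟩
  haveI : IsMulCommutative F.E.V := ⟨⟨fun a b => Subtype.ext (by
    obtain ⟨i, hi⟩ := a.2
    obtain ⟨l, hl⟩ := b.2
    show (a : G) * b = b * a
    rw [← hi, ← hl, F.E.v_comm])⟩⟩
  have hcyc : ¬ IsCyclic F.E.V := by
    intro h
    obtain ⟨a, ha⟩ := h.exists_generator
    have h8 : orderOf a = 8 := by rw [orderOf_eq_card_of_forall_mem_zpowers ha, F.E.card_V]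
    have h2 : a ^ 2 = 1 := by
      obtain ⟨i, hi⟩ := a.2
      refine Subtype.ext ?_
      rw [SubmonoidClass.coe_pow, ← hi, pow_two, F.E.v_sq]
      rfl
    have := orderOf_dvd_of_pow_eq_one h2
    rw [h8] at this
    norm_num at this
  have hcop : (Nat.card F.E.V).Coprime (Nat.card N) := by
    rw [F.E.card_V, show (8 : ℕ) = 2 ^ 3 by norm_num, hN, card_map_of_injective (subtype_injective _)]
    exact Nat.Coprime.pow_left 3 (CfsgLib.Solvable.pPrimeCore_card_coprime 2 Q).symm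
  have hNH : N ≤ F.H := by
    refine CfsgLib.Solvable.le_of_centralizer_le hcyc hVN hcop ?_
    rintro _ ⟨k, rfl⟩ hk y hy
    exact F.mem_H_of_comm_invol (F.V_le_H₁ (F.E.v_mem k)) (F.E.v_sq k) hk
      (mem_centralizer_singleton_iff.mp (Subgroup.mem_inf.mp hy).2)
  have hxQ : x ∈ Q := mem_centralizer_singleton_iff.mpr hx
  refine F.mem_of_conj ?_
  have h := hNH (mem_map_of_mem Q.subtype (CfsgLib.Invol.zStar hiso ⟨x, hxQ⟩))
  have h' : F.E.t * x * F.E.t⁻¹ * x⁻¹ ∈ F.H := h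
  have h2 := mul_mem (F.H₁_le_H (F.range_le_H₁ F.t_mem_range)) h'
  rwa [F.E.t_inv, show F.E.t * (F.E.t * x * F.E.t * x⁻¹) = F.E.t * F.E.t * (x * F.E.t * x⁻¹) by group,
    F.E.t_sq, one_mul] at h2

theorem Frame.exists_proj : ∃ q : F.H →* F.H₁, ∀ x : F.H, ∃ d ∈ F.R, (x : G) = d * q x := by
  let f : F.H → F.H₁ := fun x => ⟨_, (F.mem_H.mp x.2).choose_spec.2.choose_spec.1⟩
  have hf : ∀ x : F.H, ∃ d ∈ F.R, (x : G) = d * f x := fun x =>
    ⟨_, (F.mem_H.mp x.2).choose_spec.1, (F.mem_H.mp x.2).choose_spec.2.choose_spec.2⟩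
  refine ⟨MonoidHom.mk' f fun x y => ?_, hf⟩
  obtain ⟨a, ha, ea⟩ := hf x
  obtain ⟨b, hb, eb⟩ := hf y
  obtain ⟨c, hc, ec⟩ := hf (x * y)
  refine Subtype.ext (F.uniq hc (mul_mem ha hb) (f _).2 (f x * f y).2 ?_).2
  rw [← ec, Subgroup.coe_mul, Subgroup.coe_mul, ea, eb, mul_assoc a, ← mul_assoc (f x : G), ← F.R_comm_H₁ hb (f x).2]
  group

/-- The main induction: subgroups containing the perfect subgroup lie in `H`. -/
theorem Frame.le_H : ∀ n : ℕ, ∀ P : Subgroup G, Nat.card P ≤ n → F.H₁ ≤ P → P ≤ F.H := by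
  classical
  cases nonempty_fintype G
  intro n
  induction n using Nat.strong_induction_on with
  | _ n ih =>
  intro P hPn hP
  by_contra hne
  obtain ⟨φ⟩ := F.iso
  obtain ⟨q, hq⟩ := F.exists_proj
  -- proper subgroups fixing an element of the odd part lie in `H`
  have hsmall : ∀ d ∈ F.R, (∃ p ∈ P, p * d ≠ d * p) → P ⊓ centralizer ({d} : Set G) ≤ F.H := by
    rintro d hd ⟨p, hp, hpd⟩
    have hlt : P ⊓ centralizer ({d} : Set G) < P := lt_of_le_of_ne inf_le_left fun e => hpd (by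
      rw [← e] at hp
      exact mem_centralizer_singleton_iff.mp (Subgroup.mem_inf.mp hp).2)
    refine ih _ (lt_of_lt_of_le ?_ hPn) _ le_rfl (le_inf hP fun h hh =>
      mem_centralizer_singleton_iff.mpr (F.R_comm_H₁ hd hh).symm)
    by_contra hle
    exact hlt.ne (eq_of_le_of_card_ge inf_le_left (by omega))
  set tP : P := ⟨F.E.t, hP (F.range_le_H₁ F.t_mem_range)⟩ with htP
  have hconjP : ∀ {x : P}, IsConj tP x → ∃ p ∈ P, p * F.E.t * p⁻¹ = x := by
    intro x hx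
    obtain ⟨c, hc⟩ := isConj_iff.mp hx
    exact ⟨c, c.2, congrArg Subtype.val hc⟩
  -- cardinalities
  set HP := F.H.subgroupOf P with hHP
  have hrC : Nat.card (centralizer ({tP} : Set P)) = Nat.card (P ⊓ F.R : Subgroup G) * 120 := by
    rw [← F.E.card_range, ← Nat.card_prod]
    let f : (P ⊓ F.R : Subgroup G) × F.E.j.range → centralizer ({tP} : Set P) := fun z =>
      ⟨⟨(z.1 : G) * z.2, mul_mem (Subgroup.mem_inf.mp z.1.2).1 (hP (F.range_le_H₁ z.2.2))⟩,
        mem_centralizer_singleton_iff.mpr (Subtype.ext (by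
          obtain ⟨m, hm⟩ := z.2.2
          show (z.1 : G) * z.2 * F.E.t = F.E.t * (z.1 * z.2)
          rw [← hm]
          exact (Commute.mul_left (F.inD_comm_t (F.mem_R.mp (Subgroup.mem_inf.mp z.1.2).2).1)
            (F.E.t_comm m).symm).eq))⟩
    refine (Nat.card_eq_of_bijective f ⟨?_, ?_⟩).symm
    · intro a b h
      obtain ⟨h1, h2⟩ := F.uniq (Subgroup.mem_inf.mp a.1.2).2 (Subgroup.mem_inf.mp b.1.2).2
        (F.range_le_H₁ a.2.2) (F.range_le_H₁ b.2.2) (congrArg (fun z : centralizer ({tP} : Set P) => (z.1 : G)) h)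
      exact Prod.ext (Subtype.ext h1) (Subtype.ext h2)
    · rintro ⟨⟨x, hxP⟩, hxc⟩
      obtain ⟨d, hd, w, hw, e⟩ := F.exists_decomp (c := x)
        (congrArg Subtype.val (mem_centralizer_singleton_iff.mp hxc))
      have hdP : d ∈ P := by
        have := mul_mem hxP (inv_mem (hP (F.range_le_H₁ hw)))
        rwa [e, mul_inv_cancel_right] at this
      exact ⟨(⟨d, Subgroup.mem_inf.mpr ⟨hdP, hd⟩⟩, ⟨w, hw⟩), Subtype.ext (Subtype.ext e.symm)⟩
  have hrH : Nat.card HP = Nat.card (P ⊓ F.R : Subgroup G) * 175560 := by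
    rw [← F.card_H₁, ← Nat.card_prod]
    let f : (P ⊓ F.R : Subgroup G) × F.H₁ → HP := fun z =>
      ⟨⟨(z.1 : G) * z.2, mul_mem (Subgroup.mem_inf.mp z.1.2).1 (hP z.2.2)⟩,
        mem_subgroupOf.mpr ⟨z.1, (Subgroup.mem_inf.mp z.1.2).2, z.2, z.2.2, rfl⟩⟩
    refine (Nat.card_eq_of_bijective f ⟨?_, ?_⟩).symm
    · intro a b h
      obtain ⟨h1, h2⟩ := F.uniq (Subgroup.mem_inf.mp a.1.2).2 (Subgroup.mem_inf.mp b.1.2).2
        a.2.2 b.2.2 (congrArg (fun z : HP => (z.1 : G)) h)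
      exact Prod.ext (Subtype.ext h1) (Subtype.ext h2)
    · rintro ⟨⟨x, hxP⟩, hxH⟩
      obtain ⟨d, hd, w, hw, e⟩ := F.mem_H.mp (mem_subgroupOf.mp hxH)
      simp only at e
      have hdP : d ∈ P := by
        have := mul_mem hxP (inv_mem (hP hw))
        rwa [e, mul_inv_cancel_right] at this
      exact ⟨(⟨d, Subgroup.mem_inf.mpr ⟨hdP, hd⟩⟩, ⟨w, hw⟩), Subtype.ext (Subtype.ext e.symm)⟩
  have hIH : Nat.card {x : P // IsConj tP x ∧ (x : G) ∈ F.H} * 120 = 175560 := by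
    have hc : Nat.card (centralizer ({F.tH} : Set F.H₁)) = 120 := by
      rw [← F.E.card_range]
      refine Nat.card_congr
        { toFun := fun x => ⟨x.1, F.mem_range_of_comm x.1.2
            (congrArg Subtype.val (mem_centralizer_singleton_iff.mp x.2))⟩
          invFun := fun y => ⟨⟨y, F.range_le_H₁ y.2⟩, mem_centralizer_singleton_iff.mpr (Subtype.ext (by
            obtain ⟨m, hm⟩ := y.2
            show (y : G) * F.E.t = F.E.t * y
            rw [← hm, F.E.t_comm]))⟩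
          left_inv := fun x => rfl
          right_inv := fun y => rfl }
    have h := Char.card_isConj_mul_card_centralizer F.tH
    rw [hc, F.card_H₁] at h
    rw [← h]
    congr 1
    refine Nat.card_congr
      { toFun := fun x => ⟨⟨x.1, ?_⟩, ?_⟩
        invFun := fun y => ⟨⟨y.1, hP y.1.2⟩, ?_, F.H₁_le_H y.1.2⟩
        left_inv := fun x => rfl
        right_inv := fun y => rfl }
    · obtain ⟨p, -, hp⟩ := hconjP x.2.1
      rw [← hp]
      exact F.mem_H₁_of_conj (hp ▸ x.2.2)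
    · obtain ⟨p, -, hp⟩ := hconjP x.2.1
      have hmem : (x.1 : G) ∈ F.H₁ := hp ▸ F.mem_H₁_of_conj (hp ▸ x.2.2)
      obtain ⟨k, hk, hke⟩ := F.conj_t hmem
        (by rw [← hp, show p * F.E.t * p⁻¹ * (p * F.E.t * p⁻¹) = p * (F.E.t * F.E.t) * p⁻¹ by group, F.E.t_sq]; group)
        (fun e => F.E.t_ne (by rw [e, mul_inv_eq_one] at hp; exact mul_eq_left.mp hp))
      exact isConj_iff.mpr ⟨⟨k, hk⟩, Subtype.ext hke⟩
    · obtain ⟨c, hc'⟩ := isConj_iff.mp y.2
      exact isConj_iff.mpr ⟨⟨c, hP c.2⟩, Subtype.ext (congrArg Subtype.val hc' :)⟩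
  set A := Finset.univ.filter fun x : P => IsConj tP x ∧ (x : G) ∉ F.H with hA'
  have hAcard : A.card = (HP.index - 1) * 1463 := by
    have hI := Char.card_isConj_mul_card_centralizer tP
    have h2 := HP.card_mul_index
    rw [hrH] at h2
    rw [hrC, ← h2] at hI
    have hI' : Nat.card {x : P // IsConj tP x} = 1463 * HP.index := by
      refine Nat.eq_of_mul_eq_mul_right
        (show 0 < Nat.card (P ⊓ F.R : Subgroup G) * 120 from Nat.mul_pos Nat.card_pos (by norm_num)) ?_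
      rw [hI]; ring
    have h1 : (Finset.univ.filter fun x : P => IsConj tP x).card =
        (Finset.univ.filter fun x : P => IsConj tP x ∧ (x : G) ∈ F.H).card + A.card := by
      rw [hA', ← Finset.filter_filter, ← Finset.filter_filter, Finset.card_filter_add_card_filter_not]
    rw [Nat.card_eq_fintype_card, Fintype.card_subtype, h1] at hI'
    rw [Nat.card_eq_fintype_card, Fintype.card_subtype] at hIH
    have h3 : HP.index ≠ 0 := Subgroup.index_ne_zero_of_finite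
    generalize HP.index = i at h3 hI' ⊢
    omega
  have hi2 : 1 < HP.index := Subgroup.one_lt_index_of_ne_top fun e => hne (subgroupOf_eq_top.mp e)
  haveI : Fintype (P ⧸ HP) := Fintype.ofFinite _
  set T := (Finset.univ : Finset (P ⧸ HP)).erase ((1 : P) : P ⧸ HP) with hT
  have hTc : T.card = HP.index - 1 := by
    rw [hT, Finset.card_erase_of_mem (Finset.mem_univ _), Finset.card_univ, ← Nat.card_eq_fintype_card]
    rfl
  have hmaps : ∀ x ∈ A, (x : P ⧸ HP) ∈ T := by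
    intro x hx
    rw [hA', Finset.mem_filter] at hx
    refine Finset.mem_erase.mpr ⟨fun e => hx.2.2 ?_, Finset.mem_univ _⟩
    rw [QuotientGroup.eq, mul_one, hHP, mem_subgroupOf] at e
    simpa using inv_mem e
  obtain ⟨c, -, hc⟩ := Finset.exists_lt_card_fiber_of_mul_lt_card_of_maps_to (n := 1462) hmaps
    (by rw [hTc, hAcard]; exact Nat.mul_lt_mul_of_pos_left (by norm_num) (by omega))
  set U := A.filter fun x : P => (x : P ⧸ HP) = c with hU
  obtain ⟨u, hu⟩ : U.Nonempty := Finset.card_pos.mp (lt_of_le_of_lt (Nat.zero_le _) hc)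
  have hinU : ∀ x ∈ U, (∃ p ∈ P, p * F.E.t * p⁻¹ = (x : G)) ∧ (x : G) * x = 1 ∧ (x : G) ∉ F.H ∧
      (x : P ⧸ HP) = c := by
    intro x hx
    rw [hU, Finset.mem_filter, hA', Finset.mem_filter] at hx
    obtain ⟨p, hp, hpe⟩ := hconjP hx.1.2.1
    refine ⟨⟨p, hp, hpe⟩, ?_, hx.1.2.2, hx.2⟩
    rw [← hpe, show p * F.E.t * p⁻¹ * (p * F.E.t * p⁻¹) = p * (F.E.t * F.E.t) * p⁻¹ by group, F.E.t_sq]
    group
  obtain ⟨-, hu2, huH, huq⟩ := hinU u hu
  have hui : (u : G)⁻¹ = u := inv_eq_of_mul_eq_one_right hu2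
  set B := P ⊓ F.H ⊓ F.H.comap (MulAut.conj (u : G)).toMonoidHom with hB
  have hBmem : ∀ {z : G}, z ∈ B ↔ (z ∈ P ∧ z ∈ F.H) ∧ (u : G) * z * u ∈ F.H := by
    intro z
    simp only [hB, mem_inf, mem_comap, MulEquiv.coe_toMonoidHom, MulAut.conj_apply, hui]
  let ψ : B →* Cfsg.Spor.J1 := φ.toMonoidHom.comp
    (q.comp (Subgroup.inclusion (show B ≤ F.H from inf_le_left.trans inf_le_right)))
  have hψ : ∀ z : B, ∃ d ∈ F.R, (z : G) = d * (φ.symm (ψ z) : G) := by
    intro z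
    simp only [ψ, MonoidHom.coe_comp, MulEquiv.coe_toMonoidHom, Function.comp_apply, MulEquiv.symm_apply_apply]
    exact hq (Subgroup.inclusion _ z)
  have hfib : ∀ x ∈ U, (u : G) * x ∈ B := by
    intro x hx
    obtain ⟨-, hx2, -, hxq⟩ := hinU x hx
    have hmem : (u : G) * x ∈ F.H := by
      have h := mem_subgroupOf.mp (QuotientGroup.eq.mp (huq.trans hxq.symm))
      simp only [Subgroup.coe_mul, Subgroup.coe_inv, hui] at h
      exact h
    refine hBmem.mpr ⟨⟨mul_mem u.2 x.2, hmem⟩, ?_⟩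
    have := inv_mem hmem
    rwa [mul_inv_rev, inv_eq_of_mul_eq_one_right hx2, hui,
      show (x : G) * u = u * (u * x) * u by rw [← mul_assoc (u : G) u, hu2, one_mul]] at this
  have hbig : 1463 ≤ Nat.card ψ.range := by
    refine le_trans hc ?_
    rw [← Fintype.card_coe, ← Nat.card_eq_fintype_card]
    refine Nat.card_le_card_of_injective
      (fun x : U => (⟨ψ ⟨_, hfib x.1 x.2⟩, _, rfl⟩ : ψ.range)) ?_
    rintro ⟨w, hw⟩ ⟨w', hw'⟩ heq
    have heq' : ψ ⟨_, hfib w hw⟩ = ψ ⟨_, hfib w' hw'⟩ := congrArg Subtype.val heq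
    obtain ⟨⟨p, hp, hpe⟩, hw2, hwH, -⟩ := hinU w hw
    obtain ⟨⟨p', hp', hpe'⟩, hw2', -, -⟩ := hinU w' hw'
    obtain ⟨a, ha, ea⟩ := hψ ⟨_, hfib w hw⟩
    obtain ⟨b, hb, eb⟩ := hψ ⟨_, hfib w' hw'⟩
    simp only at ea eb
    rw [heq'] at ea
    set hh : G := ↑(φ.symm (ψ ⟨_, hfib w' hw'⟩)) with hhdef
    have hhmem : hh ∈ F.H₁ := (φ.symm (ψ ⟨_, hfib w' hw'⟩)).2
    set r : G := (w : G) * w' with hr
    have hrR : r ∈ F.R := by
      have e : r = a⁻¹ * b := by
        calc r = ((u : G) * w)⁻¹ * (u * w') := by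
              rw [hr, mul_inv_rev, inv_eq_of_mul_eq_one_right hw2, hui, mul_assoc (w : G) (u : G),
                ← mul_assoc (u : G) u, hu2, one_mul]
          _ = hh⁻¹ * (a⁻¹ * b) * hh := by rw [ea, eb]; group
          _ = a⁻¹ * b := by
            rw [mul_assoc, F.R_comm_H₁ (mul_mem (inv_mem ha) hb) hhmem, inv_mul_cancel_left]
      rw [e]; exact mul_mem (inv_mem ha) hb
    have hrP : r ∈ P := mul_mem w.2 w'.2
    have hrt : r * F.E.t = F.E.t * r := F.inD_comm_t (F.mem_R.mp hrR).1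
    have hw'r : (w' : G) = w * r := by rw [hr, ← mul_assoc, hw2, one_mul]
    have hr1 : r = 1 := by
      by_cases hcen : ∀ y ∈ P, y * r = r * y
      · have e : p⁻¹ * p' * F.E.t * (p⁻¹ * p')⁻¹ = F.E.t * r := by
          calc p⁻¹ * p' * F.E.t * (p⁻¹ * p')⁻¹ = p⁻¹ * (p' * F.E.t * p'⁻¹) * p := by group
            _ = p⁻¹ * (w * (r * p)) := by rw [hpe', hw'r]; group
            _ = p⁻¹ * (w * (p * r)) := by rw [hcen p hp]
            _ = F.E.t * r := by rw [← hpe]; group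
        have h2 := F.E.mem_range (g := p⁻¹ * p') (by
          rw [e, mul_assoc, hrt])
        rw [e] at h2
        refine F.eq_one_of_range hrR ?_
        have := mul_mem F.t_mem_range h2
        rwa [← mul_assoc, F.E.t_sq, one_mul] at this
      · exfalso
        push Not at hcen
        have hwi : (w : G)⁻¹ = w := inv_eq_of_mul_eq_one_right hw2
        have hwr : (w : G) * r = r⁻¹ * w := by
          rw [hr, mul_inv_rev, inv_eq_of_mul_eq_one_right hw2', hwi, ← mul_assoc, hw2, one_mul, mul_assoc, hw2,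
            mul_one]
        have hrw : r * (w : G) = w * r⁻¹ := by
          calc r * (w : G) = w * (w * r) * w := by rw [← mul_assoc (w : G) w, hw2, one_mul]
            _ = w * r⁻¹ * (w * w) := by rw [hwr]; group
            _ = w * r⁻¹ := by rw [hw2, mul_one]
        refine hwH (F.mem_of_conj (hsmall r hrR hcen (Subgroup.mem_inf.mpr
          ⟨mul_mem (mul_mem w.2 (hP (F.range_le_H₁ F.t_mem_range))) (inv_mem w.2),
            mem_centralizer_singleton_iff.mpr ?_⟩)))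
        rw [hwi]
        calc (w : G) * F.E.t * w * r = w * (F.E.t * r⁻¹) * w := by rw [mul_assoc _ (w : G) r, hwr]; group
          _ = w * (r⁻¹ * F.E.t) * w := by rw [(Commute.inv_left (show Commute r F.E.t from hrt)).eq]
          _ = r * (w * F.E.t * w) := by rw [← mul_assoc (w : G), ← hrw]; group
    rw [hr1, mul_one] at hw'r
    exact Subtype.ext (Subtype.ext hw'r.symm)
  refine absurd hbig (not_le.mpr (card_lt_of_odd ψ.range fun h2 => ?_))
  haveI : Fact (Nat.Prime 2) := ⟨Nat.prime_two⟩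
  obtain ⟨y₀, hy₀⟩ := exists_prime_orderOf_dvd_card' 2 h2
  obtain ⟨z₀, hzy⟩ := y₀.2
  have hz₀ : orderOf (ψ z₀) = 2 := by rw [hzy, Subgroup.orderOf_coe, hy₀]
  obtain ⟨a, b, hb, hab⟩ := Nat.exists_eq_pow_mul_and_not_dvd (orderOf_pos z₀).ne' 2 (by norm_num)
  set z : B := z₀ ^ b with hzdef
  have hz2 : z ^ 2 ^ a = 1 := by rw [hzdef, ← pow_mul, mul_comm, ← hab, pow_orderOf_eq_one]
  have hψz : ψ z = ψ z₀ := by
    rw [hzdef, map_pow, ← pow_mod_orderOf, hz₀, show b % 2 = 1 by omega, pow_one]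
  obtain ⟨d, hd, he⟩ := hψ z
  rw [hψz] at he
  set h : F.H₁ := φ.symm (ψ z₀) with hh
  have hho : orderOf h = 2 := by rw [hh, MulEquiv.orderOf_eq, hz₀]
  have hh2 : (h : G) * h = 1 := by
    have := congrArg Subtype.val (show h * h = 1 by rw [← pow_two, ← hho, pow_orderOf_eq_one])
    exact this
  have hh1 : (h : G) ≠ 1 := fun e => by
    rw [show h = 1 from Subtype.ext e, orderOf_one] at hho
    norm_num at hho
  obtain ⟨⟨hzP, hzH⟩, hzu⟩ := hBmem.mp z.2
  set z' : G := (u : G) * z * u with hz'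
  obtain ⟨d', hd', e'⟩ := hq ⟨z', hzu⟩
  simp only at e'
  set h' : F.H₁ := q ⟨z', hzu⟩ with hh'
  have hz'2 : z' ^ 2 ^ a = 1 := by
    have : z' = MulAut.conj (u : G) z := by rw [MulAut.conj_apply, hui]
    rw [this, ← map_pow, ← SubmonoidClass.coe_pow, hz2, OneMemClass.coe_one, map_one]
  have hh'2 : (h' : G) * h' = 1 := by
    refine F.sq_eq_one_of_two h'.2 (n := a) ?_
    rw [← SubmonoidClass.coe_pow, hh', ← map_pow, show (⟨z', hzu⟩ : F.H) ^ 2 ^ a = 1 from Subtype.ext hz'2,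
      map_one]
    rfl
  obtain ⟨k, hk, hke⟩ := F.conj_t h.2 hh2 hh1
  set y : G := (u : G) * h * u with hy
  have hyH : y ∉ F.H := by
    intro hyH
    have e : y = (u : G) * k * F.E.t * ((u : G) * k)⁻¹ := by rw [hy, ← hke, mul_inv_rev, hui]; group
    have h3 := mul_mem (F.mem_of_conj (e ▸ hyH)) (inv_mem (F.H₁_le_H hk))
    rw [mul_inv_cancel_right] at h3
    exact huH h3
  have hyz : y * z' = z' * y := by
    have hzh : (h : G) * z = z * h := by
      rw [he, ← mul_assoc, ← F.R_comm_H₁ hd h.2]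
    calc y * z' = u * h * (u * u) * z * u := by rw [hy, hz']; group
      _ = u * (h * z) * u := by rw [hu2]; group
      _ = u * z * (u * u) * h * u := by rw [hzh, hu2]; group
      _ = z' * y := by rw [hy, hz']; group
  by_cases hh'1 : (h' : G) = 1
  · rw [hh'1, mul_one] at e'
    by_cases hcen : ∀ p ∈ P, p * d' = d' * p
    · have e3 : (z : G) = d' := by
        calc (z : G) = (u * u) * z * (u * u) := by rw [hu2]; group
          _ = u * z' * u := by rw [hz']; group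
          _ = d' := by rw [e', hcen _ u.2, mul_assoc, hu2, mul_one]
      rw [e3] at he
      exact hh1 (F.uniq hd hd' h.2 (one_mem _) (by rw [← he, mul_one])).2
    · push Not at hcen
      refine hyH (hsmall d' hd' hcen (Subgroup.mem_inf.mpr
        ⟨mul_mem (mul_mem u.2 (hP h.2)) u.2, mem_centralizer_singleton_iff.mpr ?_⟩))
      rw [← e']; exact hyz
  · obtain ⟨k', hk', hke'⟩ := F.conj_t h'.2 hh'2 hh'1
    refine hyH ?_
    have hx : k'⁻¹ * y * k' * (d' * F.E.t) = d' * F.E.t * (k'⁻¹ * y * k') := by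
      have e2 : d' * F.E.t = k'⁻¹ * z' * k' := by
        rw [e', ← hke', ← mul_assoc k'⁻¹ d', ← F.R_comm_H₁ hd' (inv_mem hk')]; group
      rw [e2]
      calc k'⁻¹ * y * k' * (k'⁻¹ * z' * k') = k'⁻¹ * (y * z') * k' := by group
        _ = k'⁻¹ * (z' * y) * k' := by rw [hyz]
        _ = k'⁻¹ * z' * k' * (k'⁻¹ * y * k') := by group
    have h3 := mul_mem (mul_mem (F.H₁_le_H hk') (F.mem_H_of_comm_mixed hd' hx)) (inv_mem (F.H₁_le_H hk'))
    rwa [show k' * (k'⁻¹ * y * k') * k'⁻¹ = y by group] at h3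

theorem Frame.normalClosure_eq : normalClosure ({F.E.t} : Set G) = F.H₁ := by
  have htop : ∀ x : G, x ∈ F.H := fun x => F.le_H _ ⊤ le_rfl le_top (mem_top x)
  haveI hn : F.H₁.Normal := ⟨fun n hn g => by
    obtain ⟨d, hd, h, hh, rfl⟩ := F.mem_H.mp (htop g)
    rw [show d * h * n * (d * h)⁻¹ = d * (h * n * h⁻¹) * d⁻¹ by group,
      F.R_comm_H₁ hd (mul_mem (mul_mem hh hn) (inv_mem hh)), mul_inv_cancel_right]
    exact mul_mem (mul_mem hh hn) (inv_mem hh)⟩
  have hle : normalClosure ({F.E.t} : Set G) ≤ F.H₁ :=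
    normalClosure_le_normal (Set.singleton_subset_iff.mpr (F.range_le_H₁ F.t_mem_range))
  obtain ⟨φ⟩ := F.iso
  haveI := J1.isSimpleGroup
  haveI : IsSimpleGroup F.H₁ := φ.isSimpleGroup
  refine le_antisymm hle ?_
  rcases (inferInstance : ((normalClosure ({F.E.t} : Set G)).subgroupOf F.H₁).Normal).eq_bot_or_eq_top with h | h
  · exfalso
    have hm : (⟨F.E.t, F.range_le_H₁ F.t_mem_range⟩ : F.H₁) ∈ (normalClosure ({F.E.t} : Set G)).subgroupOf F.H₁ :=
      mem_subgroupOf.mpr (subset_normalClosure rfl)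
    rw [h, mem_bot] at hm
    exact F.E.t_ne (congrArg Subtype.val hm)
  · exact subgroupOf_eq_top.mp h

end CfsgLib.J1Weak
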